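import Mathlib
import Groth.Agent.Lib.AdicExtra.Complete
import Groth.Agent.Lib.AdicLim.Finite

/-!
# The completed module of differentials of a complete local algebra

For a complete Noetherian local `k`-algebra `A` whose residue field has finitely many differentials over `k`, the
completion of `Ω[A⁄k]` is finite, represents derivations into finite modules, and its quotient by the differentials
coming from a subalgebra is the module of differentials over that subalgebra when the latter is finite.
-/

universe u v

open IsLocalRing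

set_option linter.style.haveILetI false

noncomputable section

namespace GrothLib.CKaehler2

variable (k A : Type u) [CommRing k] [CommRing A] [IsLocalRing A] [Algebra k A]

/-- The completed module of differentials. -/
abbrev Om : Type u := AdicCompletion (maximalIdeal A) (Ω[A⁄k])

/-- The universal continuous derivation. -/
def dhat : Derivation k A (Om k A) :=
  (AdicCompletion.of (maximalIdeal A) (Ω[A⁄k])).compDer (KaehlerDifferential.D k A)

theorem dhat_apply (a : A) : dhat k A a = AdicCompletion.of (maximalIdeal A) _ (KaehlerDifferential.D k A a) := rfl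

/-- Differentials of the residue field bound those of the local ring modulo the maximal ideal. -/
theorem finite_quotient_kaehler [IsNoetherianRing A]
    [Module.Finite (ResidueField A) (Ω[ResidueField A⁄k])] :
    Module.Finite A (Ω[A⁄k] ⧸ (maximalIdeal A • ⊤ : Submodule A (Ω[A⁄k]))) := by
  classical
  let m := maximalIdeal A
  let κ := A ⧸ m
  obtain ⟨x, hx⟩ := (IsNoetherian.noetherian m : m.FG)
  obtain ⟨t, ht⟩ : ∃ t : Finset κ, Submodule.span κ ((KaehlerDifferential.D k κ) '' (t : Set κ)) = ⊤ := by
    have hfg : (⊤ : Submodule κ (Ω[κ⁄k])).FG := (inferInstance : Module.Finite (ResidueField A) (Ω[ResidueField A⁄k])).fg_top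
    rw [← KaehlerDifferential.span_range_derivation] at hfg
    obtain ⟨s, hs, hspan⟩ := (Submodule.fg_span_iff_fg_span_finset_subset _).1 hfg
    obtain ⟨t, -, rfl⟩ := Finset.subset_set_image_iff.1 (by simpa [Set.image_univ] using hs :
      (s : Set (Ω[κ⁄k])) ⊆ (KaehlerDifferential.D k κ) '' Set.univ)
    exact ⟨t, by rw [← Finset.coe_image, ← hspan, KaehlerDifferential.span_range_derivation]⟩
  choose a ha using fun z : κ => Ideal.Quotient.mk_surjective z
  let gen : Finset (Ω[A⁄k]) := (x ∪ t.image a).image (KaehlerDifferential.D k A)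
  let W : Submodule A (Ω[A⁄k]) := Submodule.span A (gen : Set (Ω[A⁄k])) ⊔ m • ⊤
  have hgen : ∀ y ∈ x ∪ t.image a, KaehlerDifferential.D k A y ∈ W := fun y hy =>
    Submodule.mem_sup_left (Submodule.subset_span (Finset.mem_image_of_mem _ hy))
  have hm : ∀ y ∈ m, KaehlerDifferential.D k A y ∈ W := by
    intro y hy
    rw [← hx] at hy
    induction hy using Submodule.span_induction with
    | mem z hz => exact hgen z (Finset.mem_union_left _ hz)
    | zero => rw [map_zero]; exact W.zero_mem
    | add u v _ _ hu hv => rw [map_add]; exact W.add_mem hu hv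
    | smul c u hu' hu =>
      rw [smul_eq_mul, Derivation.leibniz]
      refine W.add_mem (W.smul_mem _ hu) (Submodule.mem_sup_right (Submodule.smul_mem_smul ?_ trivial))
      show u ∈ m
      rw [← hx]; exact hu'
  let Q := Ω[A⁄k] ⧸ W
  have hmQ : Module.IsTorsionBySet A Q (m : Set A) := fun q c => by
    obtain ⟨w, rfl⟩ := W.mkQ_surjective q
    exact (Submodule.Quotient.mk_eq_zero W).2 (Submodule.mem_sup_right (Submodule.smul_mem_smul c.2 trivial))
  letI : Module κ Q := hmQ.module
  haveI : IsScalarTower A κ Q := hmQ.isScalarTower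
  haveI : IsScalarTower k κ Q := IsScalarTower.of_algebraMap_smul fun c q => by
    rw [IsScalarTower.algebraMap_apply k A κ, algebraMap_smul, algebraMap_smul]
  let DA : Derivation k A Q := W.mkQ.compDer (KaehlerDifferential.D k A)
  let f : κ →ₗ[k] Q := ((m.restrictScalars k).liftQ DA.toLinearMap fun y hy =>
    LinearMap.mem_ker.2 ((Submodule.Quotient.mk_eq_zero W).2 (hm y hy))) ∘ₗ
      (Submodule.Quotient.restrictScalarsEquiv k m).symm.toLinearMap
  have hf : ∀ c, f (Ideal.Quotient.mk m c) = DA c := fun c => rfl
  let Dκ : Derivation k κ Q := Derivation.mk' f fun u v => by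
    obtain ⟨u, rfl⟩ := Ideal.Quotient.mk_surjective u
    obtain ⟨v, rfl⟩ := Ideal.Quotient.mk_surjective v
    rw [← map_mul, hf, hf, hf, Derivation.leibniz]
    exact congrArg₂ (· + ·) (algebraMap_smul κ u (DA v)).symm (algebraMap_smul κ v (DA u)).symm
  have hzero : ∀ y, DA y = 0 := by
    intro y
    have h0 : Dκ.liftKaehlerDifferential = 0 := by
      refine LinearMap.ext_on ht ?_
      rintro _ ⟨z, hz, rfl⟩
      rw [Derivation.liftKaehlerDifferential_comp_D, LinearMap.zero_apply]
      show f z = 0
      rw [← ha z, hf]
      exact (Submodule.Quotient.mk_eq_zero W).2 (hgen _ (Finset.mem_union_right _ (Finset.mem_image_of_mem _ hz)))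
    have h1 := Derivation.liftKaehlerDifferential_comp_D Dκ (Ideal.Quotient.mk m y)
    rw [h0] at h1
    exact h1.symm
  have htop : W = ⊤ := by
    rw [eq_top_iff, ← KaehlerDifferential.span_range_derivation, Submodule.span_le]
    rintro _ ⟨y, rfl⟩
    exact (Submodule.Quotient.mk_eq_zero W).1 (hzero y)
  refine ⟨⟨gen.image (Submodule.mkQ _), ?_⟩⟩
  rw [Finset.coe_image, ← Submodule.map_span, eq_top_iff]
  intro q _
  obtain ⟨w, rfl⟩ := Submodule.mkQ_surjective _ q
  have hw : w ∈ W := by rw [htop]; trivial
  obtain ⟨u, hu, v, hv, huv⟩ := Submodule.mem_sup.1 hw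
  exact ⟨u, hu, (Submodule.Quotient.eq _).2 (by rw [← huv]; simpa using (neg_mem hv))⟩

/-- A derivation into a module vanishing on the variables lowers the adic order by one. -/
theorem derivation_pow_mem {R M : Type*} [CommRing R] [Algebra k R] [AddCommGroup M] [Module R M] [Module k M]
    (D : Derivation k R M) (I : Ideal R) (n : ℕ) {a : R} (ha : a ∈ I ^ (n + 1)) :
    D a ∈ (I ^ n • ⊤ : Submodule R M) := by
  induction n generalizing a with
  | zero => simp
  | succ n ih =>
    rw [pow_succ] at ha
    refine Submodule.mul_induction_on ha (fun x hx y hy => ?_) fun x y hx hy => by rw [map_add]; exact add_mem hx hy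
    rw [Derivation.leibniz]
    refine add_mem (Submodule.smul_mem_smul hx trivial) ?_
    have h := Submodule.smul_mem_smul hy (ih hx)
    rwa [← Submodule.mul_smul, ← pow_succ'] at h

section Complete

set_option linter.unusedSectionVars false

variable [IsNoetherianRing A] [IsAdicComplete (maximalIdeal A) A]

theorem smul_top_eq_ker (n : ℕ) :
    (maximalIdeal A ^ n • ⊤ : Submodule A (Om k A)) = LinearMap.ker (AdicCompletion.eval (maximalIdeal A) _ n) :=
  AdicCompletion.pow_smul_top_eq_ker_eval (maximalIdeal A).fg_of_isNoetherianRing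

theorem isAdicComplete_om : IsAdicComplete (maximalIdeal A) (Om k A) :=
  AdicCompletion.isAdicComplete (maximalIdeal A).fg_of_isNoetherianRing

variable [Module.Finite (ResidueField A) (Ω[ResidueField A⁄k])]

/-- The completed module of differentials is finite. -/
theorem finite_om : Module.Finite A (Om k A) := by
  haveI := isAdicComplete_om k A
  refine GrothLib.AdicExtra.finite_of_quotient_finite (I := maximalIdeal A) ?_
  haveI : Module.Finite A (Ω[A⁄k] ⧸ (maximalIdeal A ^ 1 • ⊤ : Submodule A (Ω[A⁄k]))) := by
    rw [pow_one]; exact finite_quotient_kaehler k A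
  have hker : LinearMap.ker (AdicCompletion.eval (maximalIdeal A) (Ω[A⁄k]) 1) = maximalIdeal A • ⊤ := by
    rw [← smul_top_eq_ker, pow_one]
  exact Module.Finite.equiv ((Submodule.quotEquivOfEq _ _ hker.symm).trans
    ((AdicCompletion.eval (maximalIdeal A) (Ω[A⁄k]) 1).quotKerEquivOfSurjective
      (AdicCompletion.eval_surjective _ _ _))).symm

/-- The completed module of differentials is generated by exact differentials. -/
theorem span_dhat : Submodule.span A (Set.range (dhat k A)) = ⊤ := by
  haveI := finite_om k A
  have hmap : Submodule.span A (Set.range (dhat k A)) = LinearMap.range (AdicCompletion.of (maximalIdeal A) (Ω[A⁄k])) := by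
    rw [LinearMap.range_eq_map, ← KaehlerDifferential.span_range_derivation, Submodule.map_span, ← Set.range_comp]
    rfl
  rw [hmap]
  refine eq_top_iff.2 (Submodule.le_of_le_smul_of_le_jacobson_bot (I := maximalIdeal A) Module.Finite.fg_top
    (maximalIdeal_le_jacobson _) fun x _ => ?_)
  obtain ⟨w, hw⟩ := Submodule.mkQ_surjective _ (AdicCompletion.eval (maximalIdeal A) (Ω[A⁄k]) 1 x)
  refine Submodule.mem_sup.2 ⟨_, ⟨w, rfl⟩, x - AdicCompletion.of _ _ w, ?_, by abel⟩
  have h1 : x - AdicCompletion.of (maximalIdeal A) (Ω[A⁄k]) w ∈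
      (maximalIdeal A ^ 1 • ⊤ : Submodule A (Om k A)) := by
    rw [smul_top_eq_ker, LinearMap.mem_ker, map_sub, ← hw]
    simp [AdicCompletion.eval]
  exact Submodule.smul_mono_left (pow_one (maximalIdeal A)).le h1

theorem hom_ext {N : Type*} [AddCommGroup N] [Module A N] {f g : Om k A →ₗ[A] N}
    (h : ∀ a, f (dhat k A a) = g (dhat k A a)) : f = g :=
  LinearMap.ext_on_range (span_dhat k A) h

variable {N : Type u} [AddCommGroup N] [Module A N] [Module k N] [IsScalarTower k A N] [Module.Finite A N]

/-- Derivations into finite modules factor through the completed differentials. -/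
def lift (D : Derivation k A N) : Om k A →ₗ[A] N :=
  haveI := GrothLib.AdicLim.isAdicComplete_of_finite (maximalIdeal A) N
  (AdicCompletion.ofLinearEquiv (maximalIdeal A) N).symm.toLinearMap ∘ₗ
    (AdicCompletion.map (maximalIdeal A) D.liftKaehlerDifferential).restrictScalars A

omit [Module.Finite (ResidueField A) (Ω[ResidueField A⁄k])] in
theorem lift_dhat (D : Derivation k A N) (a : A) : lift k A D (dhat k A a) = D a := by
  haveI := GrothLib.AdicLim.isAdicComplete_of_finite (maximalIdeal A) N
  show (AdicCompletion.ofLinearEquiv (maximalIdeal A) N).symm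
    (AdicCompletion.map (maximalIdeal A) D.liftKaehlerDifferential
      (AdicCompletion.of (maximalIdeal A) _ (KaehlerDifferential.D k A a))) = D a
  rw [LinearEquiv.symm_apply_eq, AdicCompletion.map_of, Derivation.liftKaehlerDifferential_comp_D]
  rfl

end Complete

section Relative

set_option linter.unusedSectionVars false

variable (R : Type u) [CommRing R] [Algebra k R] [Algebra R A] [IsScalarTower k R A]

/-- The differentials coming from `R`. -/
def relSpan : Submodule A (Om k A) := Submodule.span A (Set.range fun r : R => dhat k A (algebraMap R A r))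

variable [IsNoetherianRing A] [IsAdicComplete (maximalIdeal A) A]
  [Module.Finite (ResidueField A) (Ω[ResidueField A⁄k])] [Module.Finite A (Ω[A⁄R])]

/-- The projection to the differentials over `R`. -/
def toRel : Om k A →ₗ[A] Ω[A⁄R] := lift k A ((KaehlerDifferential.D R A).restrictScalars k)

theorem toRel_dhat (a : A) : toRel k A R (dhat k A a) = KaehlerDifferential.D R A a := lift_dhat k A _ a

theorem ker_toRel : LinearMap.ker (toRel k A R) = relSpan k A R := by
  have hle : relSpan k A R ≤ LinearMap.ker (toRel k A R) := by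
    refine Submodule.span_le.2 ?_
    rintro _ ⟨r, rfl⟩
    simp [LinearMap.mem_ker, toRel_dhat]
  refine le_antisymm (fun x hx => ?_) hle
  let Q := Om k A ⧸ relSpan k A R
  let D₀ : Derivation k A Q := (relSpan k A R).mkQ.compDer (dhat k A)
  let f : A →ₗ[R] Q :=
    { toFun := D₀
      map_add' := map_add D₀
      map_smul' := fun r a => by
        rw [Algebra.smul_def, Derivation.leibniz,
          show D₀ (algebraMap R A r) = 0 from (Submodule.Quotient.mk_eq_zero _).2
            (Submodule.subset_span ⟨r, rfl⟩), smul_zero, add_zero]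
        exact algebraMap_smul A r _ }
  let DR : Derivation R A Q := Derivation.mk' f (Derivation.leibniz D₀)
  have hcomp : DR.liftKaehlerDifferential ∘ₗ toRel k A R = (relSpan k A R).mkQ := hom_ext k A fun a => by
    rw [LinearMap.comp_apply, toRel_dhat, Derivation.liftKaehlerDifferential_comp_D]
    rfl
  rw [← Submodule.Quotient.mk_eq_zero]
  rw [← Submodule.mkQ_apply, ← hcomp, LinearMap.comp_apply, LinearMap.mem_ker.1 hx, map_zero]

theorem toRel_surjective : Function.Surjective (toRel k A R) := by
  rw [← LinearMap.range_eq_top, eq_top_iff, ← KaehlerDifferential.span_range_derivation, Submodule.span_le]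
  rintro _ ⟨a, rfl⟩
  exact ⟨dhat k A a, toRel_dhat k A R a⟩

/-- `R → A` is unramified at `p` iff differentials from `R` generate the completed differentials at `p`. -/
theorem isUnramifiedAt_iff (p : Ideal A) [p.IsPrime] :
    Algebra.IsUnramifiedAt R p ↔ ∀ ω : Om k A, ∃ t ∉ p, t • ω ∈ relSpan k A R := by
  have h : Algebra.IsUnramifiedAt R p ↔ (⟨p, inferInstance⟩ : PrimeSpectrum A) ∉ Module.support A (Ω[A⁄R]) := by
    have h' := congrArg (fun s : Set (PrimeSpectrum A) => (⟨p, inferInstance⟩ : PrimeSpectrum A) ∈ s)
      (Algebra.unramifiedLocus_eq_compl_support (R := R) (A := A))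
    exact iff_of_eq h'
  rw [h, Module.notMem_support_iff']
  constructor
  · intro H ω
    obtain ⟨t, ht, htω⟩ := H (toRel k A R ω)
    exact ⟨t, ht, by rw [← ker_toRel, LinearMap.mem_ker, map_smul, htω]⟩
  · intro H z
    obtain ⟨ω, rfl⟩ := toRel_surjective k A R z
    obtain ⟨t, ht, htω⟩ := H ω
    refine ⟨t, ht, ?_⟩
    rw [← ker_toRel, LinearMap.mem_ker, map_smul] at htω
    exact htω

end Relative

end GrothLib.CKaehler2
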