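import Groth.Agent.Lib.CKaehler2.PowerSeries
import Groth.Agent.S2469

/-!
# The generic rank of completed differentials is at least the dimension
-/

universe u

open IsLocalRing TensorProduct

set_option linter.style.haveILetI false

noncomputable section

namespace GrothLib.CKaehler2

/-- Imperfection modules map onto relative ones. -/
theorem exists_imperfection_lift (Λ : Type) (A B C : Type u) [CommRing Λ] [CommRing A] [CommRing B] [CommRing C]
    [Algebra Λ A] [Algebra Λ B] [Algebra Λ C] [Algebra A B] [Algebra A C] [Algebra B C]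
    [IsScalarTower Λ A B] [IsScalarTower Λ A C] [IsScalarTower Λ B C] [IsScalarTower A B C] :
    ∀ ω ∈ EGA41.imperfection A B C, ∃ η ∈ EGA41.imperfection Λ B C,
      (KaehlerDifferential.map Λ A B B).baseChange C η = ω := by
  intro ω hω
  have hω' : KaehlerDifferential.mapBaseChange A B C ω = 0 := hω
  have hsurj : Function.Surjective ((KaehlerDifferential.map Λ A B B).baseChange C) :=
    LinearMap.lTensor_surjective C (KaehlerDifferential.map_surjective Λ A B)
  obtain ⟨η₀, hη₀⟩ := hsurj ω
  have m1 : ((KaehlerDifferential.map Λ A C C).restrictScalars B) ∘ₗ KaehlerDifferential.map Λ Λ B C =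
      KaehlerDifferential.map A A B C ∘ₗ KaehlerDifferential.map Λ A B B :=
    Derivation.liftKaehlerDifferential_unique _ _ (Derivation.ext fun b => by simp)
  have m2 : ((KaehlerDifferential.map Λ Λ B C).restrictScalars A) ∘ₗ KaehlerDifferential.map Λ Λ A B =
      KaehlerDifferential.map Λ Λ A C :=
    Derivation.liftKaehlerDifferential_unique _ _ (Derivation.ext fun a => by
      simp [← IsScalarTower.algebraMap_apply A B C])
  have m3 : ((KaehlerDifferential.map Λ A B B).restrictScalars A) ∘ₗ KaehlerDifferential.map Λ Λ A B = 0 :=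
    Derivation.liftKaehlerDifferential_unique _ _ (Derivation.ext fun a => by
      simp [Derivation.map_algebraMap])
  have key : ∀ z, KaehlerDifferential.mapBaseChange A B C ((KaehlerDifferential.map Λ A B B).baseChange C z) =
      KaehlerDifferential.map Λ A C C (KaehlerDifferential.mapBaseChange Λ B C z) := by
    intro z
    induction z using TensorProduct.induction_on with
    | zero => simp only [map_zero]
    | add a b ha hb => simp only [map_add, ha, hb]
    | tmul c w =>
      have h := LinearMap.congr_fun m1 w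
      simp only [LinearMap.comp_apply, LinearMap.coe_restrictScalars] at h
      rw [LinearMap.baseChange_tmul, KaehlerDifferential.mapBaseChange_tmul,
        KaehlerDifferential.mapBaseChange_tmul, LinearMap.map_smul, h]
  obtain ⟨θ, hθ⟩ := (KaehlerDifferential.exact_mapBaseChange_map Λ A C
    (KaehlerDifferential.mapBaseChange Λ B C η₀)).1 (by rw [← key, hη₀, hω'])
  -- move `θ` to `C ⊗ Ω[B⁄Λ]`
  obtain ⟨j, hj⟩ : ∃ j : C ⊗[A] Ω[A⁄Λ] →ₗ[C] C ⊗[B] Ω[B⁄Λ],
      ∀ c w, j (c ⊗ₜ w) = c ⊗ₜ KaehlerDifferential.map Λ Λ A B w :=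
    ⟨LinearMap.liftBaseChange C
      (((TensorProduct.mk B C Ω[B⁄Λ] 1).restrictScalars A) ∘ₗ KaehlerDifferential.map Λ Λ A B),
     fun c w => by simp [TensorProduct.smul_tmul']⟩
  have hj1 : ∀ z, KaehlerDifferential.mapBaseChange Λ B C (j z) = KaehlerDifferential.mapBaseChange Λ A C z := by
    intro z
    induction z using TensorProduct.induction_on with
    | zero => simp only [map_zero]
    | add a b ha hb => simp only [map_add, ha, hb]
    | tmul c w =>
      have h := LinearMap.congr_fun m2 w
      simp only [LinearMap.comp_apply, LinearMap.coe_restrictScalars] at h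
      rw [hj, KaehlerDifferential.mapBaseChange_tmul, KaehlerDifferential.mapBaseChange_tmul, h]
  have hj2 : ∀ z, (KaehlerDifferential.map Λ A B B).baseChange C (j z) = 0 := by
    intro z
    induction z using TensorProduct.induction_on with
    | zero => simp only [map_zero]
    | add a b ha hb => simp only [map_add, ha, hb, add_zero]
    | tmul c w =>
      have h := LinearMap.congr_fun m3 w
      simp only [LinearMap.comp_apply, LinearMap.coe_restrictScalars, LinearMap.zero_apply] at h
      rw [hj, LinearMap.baseChange_tmul, h, TensorProduct.tmul_zero]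
  refine ⟨η₀ - j θ, ?_, by rw [map_sub, hη₀, hj2, sub_zero]⟩
  change KaehlerDifferential.mapBaseChange Λ B C (η₀ - j θ) = 0
  rw [map_sub, hj1, hθ, sub_self]


/-- For a finite extension of fields the relative imperfection is at most the differentials. -/
theorem finrank_ker_mapBaseChange_le (k M L : Type u) [Field k] [Field M] [Field L] [Algebra k M] [Algebra k L]
    [Algebra M L] [IsScalarTower k M L] [FiniteDimensional M L] :
    Module.Finite L (LinearMap.ker (KaehlerDifferential.mapBaseChange k M L)) ∧
      Module.finrank L (LinearMap.ker (KaehlerDifferential.mapBaseChange k M L)) ≤ Module.finrank L (Ω[L⁄M]) := by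
  obtain ⟨-, hfin, heq⟩ := Groth.Agent.S2469.result (K := M) (L := L)
  rw [show Algebra.trdeg M L = 0 from trdeg_eq_zero] at heq
  haveI := hfin
  let T : EGA41.imperfection ℤ M L →ₗ[L] L ⊗[M] Ω[M⁄k] :=
    ((KaehlerDifferential.map ℤ k M M).baseChange L) ∘ₗ (EGA41.imperfection ℤ M L).subtype
  have hle : LinearMap.ker (KaehlerDifferential.mapBaseChange k M L) ≤ LinearMap.range T := fun ω hω => by
    obtain ⟨η, hη, h⟩ := exists_imperfection_lift ℤ k M L ω hω
    exact ⟨⟨η, hη⟩, h⟩
  haveI : Module.Finite L (LinearMap.range T) := Module.Finite.range T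
  haveI : Module.Finite L (LinearMap.ker (KaehlerDifferential.mapBaseChange k M L)) :=
    Submodule.finiteDimensional_of_le hle
  refine ⟨inferInstance, (Submodule.finrank_mono hle).trans ((LinearMap.finrank_range_le T).trans ?_)⟩
  have h0 : Cardinal.toNat (0 : Cardinal.{u}) = 0 := map_zero _
  rw [h0] at heq
  omega

variable (k : Type u) [Field k]

/-- Derivation into a vector space witnessing that the generic rank of completed differentials of a finite extension
of `k[[T_1,…,T_d]]` is at least `d`. -/
theorem exists_derivation_witness {d : ℕ} (D : Type u) [CommRing D] [IsDomain D] [Algebra k D]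
    [Algebra (MvPowerSeries (Fin d) k) D] [IsScalarTower k (MvPowerSeries (Fin d) k) D]
    [Module.Finite (MvPowerSeries (Fin d) k) D]
    (hinj : Function.Injective (algebraMap (MvPowerSeries (Fin d) k) D)) :
    ∃ (V : Type u) (_ : AddCommGroup V) (_ : Module (FractionRing D) V) (_ : Module D V)
      (_ : IsScalarTower D (FractionRing D) V) (_ : Module k V)
      (_ : IsScalarTower k D V) (δ : Derivation k D V),
      (∃ s : Finset V, ∀ a, δ a ∈ Submodule.span D (s : Set V)) ∧
      Module.Finite (FractionRing D) V ∧ Submodule.span (FractionRing D) (Set.range δ) = ⊤ ∧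
        d ≤ Module.finrank (FractionRing D) V := by
  classical
  let P := MvPowerSeries (Fin d) k
  let L0 := FractionRing P
  let L := FractionRing D
  haveI : FaithfulSMul P D := (faithfulSMul_iff_algebraMap_injective P D).mpr hinj
  haveI : FaithfulSMul P L := (faithfulSMul_iff_algebraMap_injective P L).mpr (by
    rw [IsScalarTower.algebraMap_eq P D L]
    exact (IsFractionRing.injective D L).comp hinj)
  letI : Algebra L0 L := FractionRing.liftAlgebra P L
  haveI : IsScalarTower P L0 L := FractionRing.isScalarTower_liftAlgebra P L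
  haveI : IsScalarTower k L0 L := IsScalarTower.of_algebraMap_eq fun c => by
    rw [IsScalarTower.algebraMap_apply k P L0, ← IsScalarTower.algebraMap_apply P L0 L,
      IsScalarTower.algebraMap_apply P D L, ← IsScalarTower.algebraMap_apply k P D]
    exact IsScalarTower.algebraMap_apply k D L c
  haveI : Module.IsTorsionFree P D := FaithfulSMul.to_isTorsionFree P D
  haveI : IsDomain (MvPowerSeries (Fin d) k) := NoZeroDivisors.to_isDomain _
  haveI : IsDomain P := ‹IsDomain (MvPowerSeries (Fin d) k)›
  haveI : FiniteDimensional (FractionRing (MvPowerSeries (Fin d) k)) (FractionRing D) := inferInstance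
  haveI : FiniteDimensional L0 L := inferInstance
  -- the partial derivatives on the fraction field of the power series
  let D₁ : Derivation k P (Fin d → L0) :=
    Derivation.mk' (LinearMap.pi fun i => (IsScalarTower.toAlgHom k P L0).toLinearMap ∘ₗ (MvPowerSeries.pderiv k i).toLinearMap)
      fun a b => funext fun i => by simp [Algebra.smul_def]
  have hD₁ : ∀ a i, D₁ a i = algebraMap P L0 (MvPowerSeries.pderiv k i a) := fun _ _ => rfl
  let ψ : Ω[L0⁄k] →ₗ[P] (Fin d → L0) := IsLocalizedModule.lift (nonZeroDivisors P)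
    (KaehlerDifferential.map k k P L0) D₁.liftKaehlerDifferential fun s => by
      rw [Module.End.isUnit_iff]
      refine Function.bijective_iff_has_inverse.mpr ⟨fun v => (algebraMap P L0 s)⁻¹ • v, fun v => ?_, fun v => ?_⟩
      all_goals
        simp only [Module.algebraMap_end_apply, ← algebraMap_smul L0 (s : P), smul_smul]
        first
          | rw [inv_mul_cancel₀ (IsFractionRing.to_map_ne_zero_of_mem_nonZeroDivisors s.2), one_smul]
          | rw [mul_inv_cancel₀ (IsFractionRing.to_map_ne_zero_of_mem_nonZeroDivisors s.2), one_smul]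
  let Φ : Ω[L0⁄k] →ₗ[L0] (Fin d → L0) :=
    LinearMap.extendScalarsOfIsLocalization (nonZeroDivisors P) L0 ψ
  have hΦ : ∀ a, Φ (KaehlerDifferential.D k L0 (algebraMap P L0 a)) = D₁ a := fun a => by
    show ψ _ = _
    rw [← KaehlerDifferential.map_D k k P L0 a, IsLocalizedModule.lift_apply,
      Derivation.liftKaehlerDifferential_comp_D]
  have hΦs : Function.Surjective Φ := by
    have he : ∀ i, (Pi.single i (1 : L0) : Fin d → L0) ∈ LinearMap.range Φ := fun i =>
      ⟨KaehlerDifferential.D k L0 (algebraMap P L0 (MvPowerSeries.X i)), by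
        rw [hΦ]
        funext j
        rw [hD₁]
        rcases eq_or_ne j i with rfl | h
        · simp
        · simp [h.symm]⟩
    intro v
    have hv : v ∈ LinearMap.range Φ := by
      rw [pi_eq_sum_univ' v]
      exact Submodule.sum_mem _ fun i _ => Submodule.smul_mem _ _ (he i)
    exact hv
  let ι := KaehlerDifferential.mapBaseChange k L0 L
  let K' : Submodule L (Ω[L⁄k]) := Submodule.map ι (LinearMap.range ((LinearMap.ker Φ).subtype.baseChange L))
  let V := Ω[L⁄k] ⧸ K'
  let δ : Derivation k D V := Derivation.compAlgebraMap D (K'.mkQ.compDer (KaehlerDifferential.D k L))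
  have hδ : ∀ a, δ a = K'.mkQ (KaehlerDifferential.D k L (algebraMap D L a)) := fun _ => rfl
  let ΦL := Φ.baseChange L
  have hΦL : Function.Surjective ΦL := LinearMap.lTensor_surjective L hΦs
  have hexact : Function.Exact ((LinearMap.ker Φ).subtype.baseChange L) ΦL :=
    lTensor_exact L (LinearMap.exact_subtype_ker_map Φ) hΦs
  have hker : LinearMap.ker ΦL ≤ LinearMap.ker (K'.mkQ ∘ₗ ι) := by
    rw [hexact.linearMap_ker_eq]
    rintro _ ⟨z, rfl⟩
    exact (Submodule.Quotient.mk_eq_zero K').mpr ⟨_, ⟨z, rfl⟩, rfl⟩
  let Ψ : L ⊗[L0] (Fin d → L0) →ₗ[L] V :=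
    (LinearMap.ker ΦL).liftQ (K'.mkQ ∘ₗ ι) hker ∘ₗ (ΦL.quotKerEquivOfSurjective hΦL).symm.toLinearMap
  have hΨ : ∀ z, Ψ (ΦL z) = K'.mkQ (ι z) := fun z => by
    show (LinearMap.ker ΦL).liftQ (K'.mkQ ∘ₗ ι) hker ((ΦL.quotKerEquivOfSurjective hΦL).symm (ΦL z)) = _
    rw [show ΦL z = ΦL.quotKerEquivOfSurjective hΦL (Submodule.Quotient.mk z) from rfl, LinearEquiv.symm_apply_apply]
    rfl
  have hrangeΨ : LinearMap.range Ψ = LinearMap.range (K'.mkQ ∘ₗ ι) := by
    ext v
    constructor
    · rintro ⟨w, rfl⟩
      obtain ⟨z, rfl⟩ := hΦL w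
      exact ⟨z, (hΨ z).symm⟩
    · rintro ⟨z, rfl⟩
      exact ⟨ΦL z, hΨ z⟩
  obtain ⟨hfinker, hkerle⟩ := finrank_ker_mapBaseChange_le k L0 L
  haveI := hfinker
  have hkerΨ : LinearMap.ker Ψ ≤ Submodule.map ΦL (LinearMap.ker ι) := by
    intro w hw
    obtain ⟨z, rfl⟩ := hΦL w
    rw [LinearMap.mem_ker, hΨ] at hw
    obtain ⟨_, ⟨y, rfl⟩, hy⟩ := (Submodule.Quotient.mk_eq_zero K').mp hw
    refine ⟨z - (LinearMap.ker Φ).subtype.baseChange L y, by simp [LinearMap.mem_ker, hy], ?_⟩
    rw [map_sub, hexact.apply_apply_eq_zero, sub_zero]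
  have hkerΨdim : Module.finrank L (LinearMap.ker Ψ) ≤ Module.finrank L (LinearMap.ker ι) :=
    (Submodule.finrank_mono hkerΨ).trans (Submodule.finrank_map_le ΦL (LinearMap.ker ι))
  -- `V` is an extension of `Ω[L⁄L0]` by the image of `Ψ`
  have hex := KaehlerDifferential.exact_mapBaseChange_map k L0 L
  let π : V →ₗ[L] Ω[L⁄L0] := K'.liftQ (KaehlerDifferential.map k L0 L L) (by
    rintro _ ⟨w, -, rfl⟩
    exact hex.apply_apply_eq_zero w)
  have hπs : Function.Surjective π := fun y => by
    obtain ⟨z, rfl⟩ := KaehlerDifferential.map_surjective k L0 L y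
    exact ⟨K'.mkQ z, rfl⟩
  have hπker : LinearMap.ker π = LinearMap.range Ψ := by
    rw [hrangeΨ]
    ext v
    obtain ⟨z, rfl⟩ := K'.mkQ_surjective v
    constructor
    · intro hv
      obtain ⟨w, hw⟩ := (hex z).mp hv
      exact ⟨w, congrArg K'.mkQ hw⟩
    · rintro ⟨w, hw⟩
      show π _ = 0
      rw [← hw]
      exact hex.apply_apply_eq_zero w
  haveI hΩfin : Module.Finite L (Ω[L⁄L0]) := (Groth.Agent.S2469.result (K := L0) (L := L)).1
  haveI : Module.Finite L (LinearMap.range Ψ) := Module.Finite.range Ψ
  haveI hVfin : Module.Finite L V := by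
    haveI : Module.Finite L (V ⧸ LinearMap.ker π) :=
      Module.Finite.equiv (π.quotKerEquivOfSurjective hπs).symm
    haveI : Module.Finite L (LinearMap.ker π) := by rw [hπker]; infer_instance
    exact Module.Finite.of_submodule_quotient (LinearMap.ker π)
  have hcalc : d ≤ Module.finrank L V := by
    have h1 := LinearMap.finrank_range_add_finrank_ker π
    rw [LinearMap.range_eq_top.mpr hπs, finrank_top, hπker] at h1
    have h2 := LinearMap.finrank_range_add_finrank_ker Ψ
    rw [Module.finrank_baseChange, Module.finrank_fintype_fun_eq_card, Fintype.card_fin] at h2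
    have h3 : Module.finrank L (LinearMap.ker ι) ≤ Module.finrank L (Ω[L⁄L0]) := hkerle
    omega
  -- the span of `δ`
  have hspan : Submodule.span L (Set.range δ) = ⊤ := by
    have h := KaehlerDifferential.span_range_map_derivation_of_isLocalization (R := k) (S := D) (T := L)
      (nonZeroDivisors D)
    rw [eq_top_iff, ← Submodule.range_mkQ K', ← Submodule.map_top, ← h, Submodule.map_span]
    refine Submodule.span_mono ?_
    rintro _ ⟨_, ⟨a, rfl⟩, rfl⟩
    exact ⟨a, by rw [hδ]; simp⟩
  -- the image lies in a finite module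
  obtain ⟨sb, hsb⟩ := (inferInstance : Module.Finite P D).fg_top
  let W : Submodule D V := Submodule.span D
    ((sb.image δ ∪ Finset.univ.image fun i => δ (algebraMap P D (MvPowerSeries.X i)) : Finset V) : Set V)
  refine ⟨V, inferInstance, inferInstance, inferInstance, inferInstance, inferInstance, inferInstance, δ,
    ⟨sb.image δ ∪ Finset.univ.image fun i => δ (algebraMap P D (MvPowerSeries.X i)), fun a => ?_⟩, hVfin, hspan, hcalc⟩
  show δ a ∈ W
  have hP : ∀ f : P, δ (algebraMap P D f) ∈ W := by
    intro f
    have hf : δ (algebraMap P D f) = ∑ i, algebraMap P D (MvPowerSeries.pderiv k i f) •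
        δ (algebraMap P D (MvPowerSeries.X i)) := by
      have key : ∀ g : P, δ (algebraMap P D g) = Ψ (1 ⊗ₜ[L0] D₁ g) := fun g => by
        rw [← hΦ g, show (1 : L) ⊗ₜ[L0] Φ (KaehlerDifferential.D k L0 (algebraMap P L0 g)) =
          ΦL (1 ⊗ₜ KaehlerDifferential.D k L0 (algebraMap P L0 g)) from rfl, hΨ, hδ]
        congr 1
        simp [ι, ← IsScalarTower.algebraMap_apply P L0 L, ← IsScalarTower.algebraMap_apply P D L]
      have hsingle : ∀ i, D₁ (MvPowerSeries.X i) = Pi.single i (1 : L0) := fun i => by
        funext j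
        rw [hD₁]
        rcases eq_or_ne j i with rfl | h
        · simp
        · simp [h.symm]
      have hdec : (1 : L) ⊗ₜ[L0] D₁ f =
          ∑ i, algebraMap P L (MvPowerSeries.pderiv k i f) • ((1 : L) ⊗ₜ[L0] D₁ (MvPowerSeries.X i)) := by
        conv_lhs => rw [pi_eq_sum_univ' (D₁ f)]
        rw [TensorProduct.tmul_sum]
        refine Finset.sum_congr rfl fun i _ => ?_
        rw [hsingle, hD₁, TensorProduct.tmul_smul, IsScalarTower.algebraMap_apply P L0 L, algebraMap_smul]
        exact (algebraMap_smul L0 _ _).symm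
      rw [key f, hdec, map_sum]
      refine Finset.sum_congr rfl fun i _ => ?_
      rw [map_smul, ← key, IsScalarTower.algebraMap_apply P D L, algebraMap_smul]
    rw [hf]
    exact W.sum_mem fun i _ => W.smul_mem _ (Submodule.subset_span (by simp))
  have ha : a ∈ Submodule.span P (sb : Set D) := by rw [hsb]; trivial
  induction ha using Submodule.span_induction with
  | mem z hz =>
    exact Submodule.subset_span (Finset.mem_coe.2 (Finset.mem_union_left _ (Finset.mem_image_of_mem δ hz)))
  | zero => rw [map_zero]; exact W.zero_mem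
  | add x y _ _ hx hy => rw [map_add]; exact W.add_mem hx hy
  | smul c x _ hx =>
    rw [Algebra.smul_def, Derivation.leibniz]
    exact W.add_mem (W.smul_mem _ hx) (W.smul_mem _ (hP c))

variable (A : Type u) [CommRing A] [IsLocalRing A] [IsNoetherianRing A] [Algebra k A]
  [IsAdicComplete (maximalIdeal A) A] [Module.Finite k (ResidueField A)]

/-- If `m` elements generate the completed differentials at a prime `p`, then `dim A/q ≤ m` for all primes `q ≤ p`. -/
theorem dim_le_of_generators (p q : Ideal A) [q.IsPrime] (hqp : q ≤ p) {n : ℕ}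
    (hn : ringKrullDim (A ⧸ q) = n) {m : ℕ} (ω : Fin m → Om k A)
    (hω : ∀ x : Om k A, ∃ t ∉ p, t • x ∈ Submodule.span A (Set.range ω)) : n ≤ m := by
  classical
  let D := A ⧸ q
  haveI : IsLocalRing D := IsLocalRing.of_surjective' (Ideal.Quotient.mk q) Ideal.Quotient.mk_surjective
  haveI : IsLocalHom (algebraMap A D) := IsLocalHom.of_surjective _ Ideal.Quotient.mk_surjective
  haveI : IsAdicComplete (maximalIdeal D) D := by
    haveI := GrothLib.AdicLim.isAdicComplete_of_finite (maximalIdeal A) D
    rw [show maximalIdeal D = (maximalIdeal A).map (algebraMap A D) from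
      ((IsLocalRing.map_maximalIdeal_of_surjective (Ideal.Quotient.mk q) Ideal.Quotient.mk_surjective)).symm]
    exact (IsAdicComplete.map_algebraMap_iff (maximalIdeal A) D).mpr inferInstance
  haveI : Module.Finite k (A ⧸ maximalIdeal A) := ‹Module.Finite k (ResidueField A)›
  haveI : Module.Finite k (ResidueField D) := Module.Finite.of_surjective
    (
      (Ideal.Quotient.liftₐ (maximalIdeal A) ((IsScalarTower.toAlgHom k D (ResidueField D)).comp (Ideal.Quotient.mkₐ k q))
        fun a ha => (residue_eq_zero_iff _).mpr (map_nonunit (algebraMap A D) a ha)).toLinearMap) (by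
      intro y
      obtain ⟨y, rfl⟩ := residue_surjective y
      obtain ⟨a, rfl⟩ := Ideal.Quotient.mk_surjective y
      exact ⟨Ideal.Quotient.mk _ a, rfl⟩)
  obtain ⟨s, hmin, hcard⟩ := Ideal.exists_finset_card_eq_height_of_isNoetherianRing (maximalIdeal D)
  have hsn : s.card = n := by
    have h : ((s.card : ℕ∞) : WithBot ℕ∞) = ringKrullDim D := by
      rw [hcard, IsLocalRing.maximalIdeal_height_eq_ringKrullDim]
    rw [hn] at h
    exact_mod_cast h
  subst hsn
  let x : Fin s.card → D := fun i => (s.equivFin.symm i : s)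
  have hrange : Set.range x = (s : Set D) := Set.ext fun z =>
    ⟨fun ⟨i, hi⟩ => hi ▸ (s.equivFin.symm i).2, fun hz => ⟨s.equivFin ⟨z, hz⟩, by simp [x]⟩⟩
  obtain ⟨_, _, -, -, _⟩ := exists_finite_of_radical k D x
    (fun i => hmin.1.2 (Ideal.subset_span (s.equivFin.symm i).2)) (by
      rw [hrange, Ideal.radical_eq_sInf]
      exact le_sInf fun P hP => hmin.2 ⟨hP.2, hP.1⟩ (le_maximalIdeal hP.2.ne_top))
  have hinj := injective_of_dim k (m := s.card) D hn
  obtain ⟨V, _, _, _, _, _, _, δ, ⟨sV, hsV⟩, _, hspan, hd⟩ :=
    exists_derivation_witness k D hinj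
  refine hd.trans ?_
  letI : Module A V := Module.compHom V (algebraMap A D)
  haveI : IsScalarTower A D V := IsScalarTower.of_algebraMap_smul fun _ _ => rfl
  haveI : IsScalarTower k A V := IsScalarTower.of_algebraMap_smul fun c v => by
    rw [← algebraMap_smul D (algebraMap k A c) v, ← IsScalarTower.algebraMap_apply k A D, algebraMap_smul]
  let W : Submodule A V := Submodule.span A (sV : Set V)
  haveI : Module.Finite A W := Module.Finite.span_of_finite A sV.finite_toSet
  have hWmem : ∀ a : A, δ (algebraMap A D a) ∈ W := fun a => by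
    have h := hsV (algebraMap A D a)
    rw [← SetLike.mem_coe,
      ← Submodule.coe_restrictScalars A, Submodule.restrictScalars_span A D Ideal.Quotient.mk_surjective] at h
    exact h
  let δA : Derivation k A W := Derivation.mk'
    ((δ.toLinearMap.comp (IsScalarTower.toAlgHom k A D).toLinearMap).codRestrict (W.restrictScalars k) hWmem) fun a b => by
      apply Subtype.ext
      show δ (algebraMap A D (a * b)) = a • δ (algebraMap A D b) + b • δ (algebraMap A D a)
      rw [map_mul, Derivation.leibniz, algebraMap_smul, algebraMap_smul]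
  let Λ := lift k A δA
  have hΛ : ∀ z, Λ (dhat k A z) = ⟨δ (algebraMap A D z), hWmem z⟩ := fun z => lift_dhat k A δA z
  have hle : Submodule.span (FractionRing D) (Set.range δ) ≤
      Submodule.span (FractionRing D) (Set.range fun j => ((Λ (ω j) : W) : V)) := by
    refine Submodule.span_le.mpr ?_
    rintro _ ⟨a, rfl⟩
    obtain ⟨a, rfl⟩ := Ideal.Quotient.mk_surjective a
    obtain ⟨t, ht, hmem⟩ := hω (dhat k A a)
    obtain ⟨c, hc⟩ := (Submodule.mem_span_range_iff_exists_fun A).mp hmem
    have h1 := congrArg (fun w : W => (w : V)) (congrArg Λ hc)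
    simp only [map_sum, map_smul, hΛ, Submodule.coe_sum, Submodule.coe_smul] at h1
    have ht' : algebraMap D (FractionRing D) (algebraMap A D t) ≠ 0 :=
      (map_ne_zero_iff _ (IsFractionRing.injective D (FractionRing D))).mpr fun h =>
        ht (hqp (Ideal.Quotient.eq_zero_iff_mem.mp h))
    have hconv : ∀ (r : A) (v : V), r • v = algebraMap D (FractionRing D) (algebraMap A D r) • v := fun r v => by
      rw [algebraMap_smul, algebraMap_smul]
    simp only [hconv] at h1
    show δ (algebraMap A D a) ∈ _
    rw [← inv_smul_smul₀ ht' (δ (algebraMap A D a)), ← h1]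
    exact Submodule.smul_mem _ _ (Submodule.sum_mem _ fun j _ => Submodule.smul_mem _ _ (Submodule.subset_span ⟨j, rfl⟩))
  rw [← finrank_top (FractionRing D) V, ← hspan]
  haveI : Module.Finite (FractionRing D) (Submodule.span (FractionRing D) (Set.range fun j => ((Λ (ω j) : W) : V))) :=
    Module.Finite.span_of_finite _ (Set.finite_range _)
  exact ((Submodule.finrank_mono hle).trans (finrank_range_le_card _)).trans (Fintype.card_fin m).le

end GrothLib.CKaehler2
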