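import Groth.Agent.Lib.CKaehler2.Gens

/-!
# The generic rank in the separable case
-/

universe u

open IsLocalRing TensorProduct

set_option linter.style.haveILetI false

noncomputable section

namespace GrothLib.CKaehler2

/-- Spanning after passing to the fraction field, by elements. -/
theorem exists_frac_gens {A M : Type u} [CommRing A] [IsDomain A] [AddCommGroup M] [Module A M]
    [Module.Finite A M] :
    ∃ w : Fin (Module.finrank (FractionRing A) (FractionRing A ⊗[A] M)) → M,
      ∀ x : M, ∃ t : A, t ≠ 0 ∧ t • x ∈ Submodule.span A (Set.range w) := by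
  let E := FractionRing A
  let j : M →ₗ[A] E ⊗[A] M := TensorProduct.mk A E M 1
  haveI : IsLocalizedModule (nonZeroDivisors A) j :=
    (isLocalizedModule_iff_isBaseChange (nonZeroDivisors A) E j).mpr (TensorProduct.isBaseChange A M E)
  let e := Module.finBasis E (E ⊗[A] M)
  choose ms hms using fun i => IsLocalizedModule.surj (nonZeroDivisors A) j (e i)
  refine ⟨fun i => (ms i).1, fun x => ?_⟩
  have hspan : Submodule.span E (Set.range fun i => j (ms i).1) = ⊤ := by
    rw [eq_top_iff, ← e.span_eq, Submodule.span_le]
    rintro _ ⟨i, rfl⟩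
    have h : ((ms i).2 : A) • e i ∈ Submodule.span E (Set.range fun i => j (ms i).1) :=
      Submodule.subset_span ⟨i, (hms i).symm⟩
    rw [← algebraMap_smul E ((ms i).2 : A)] at h
    exact (Submodule.smul_mem_iff _ (IsFractionRing.to_map_ne_zero_of_mem_nonZeroDivisors (ms i).2.2)).1 h
  have hx : j x ∈ (Submodule.span A (Set.range fun i => (ms i).1)).localized' E (nonZeroDivisors A) j := by
    rw [Submodule.localized'_span, ← Set.range_comp]
    exact hspan.ge trivial
  obtain ⟨m, hm, t, ht⟩ := hx
  rw [IsLocalizedModule.mk'_eq_iff, Submonoid.smul_def, ← map_smul] at ht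
  obtain ⟨c, hc⟩ := (IsLocalizedModule.eq_iff_exists (nonZeroDivisors A) j).1 ht
  refine ⟨(c : A) * (t : A), mul_ne_zero (nonZeroDivisors.ne_zero c.2) (nonZeroDivisors.ne_zero t.2), ?_⟩
  rw [mul_smul]
  simp only [Submonoid.smul_def] at hc
  rw [← hc]
  exact Submodule.smul_mem _ _ hm

variable (k : Type u) [Field k] (A : Type u) [CommRing A] [IsLocalRing A] [IsNoetherianRing A] [Algebra k A]
  [IsAdicComplete (maximalIdeal A) A]

omit [IsNoetherianRing A] [IsAdicComplete (maximalIdeal A) A] in
/-- A finite extension of a power series ring over `k` has residue field finite over `k`. -/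
theorem finite_residueField {r : ℕ} [Algebra (MvPowerSeries (Fin r) k) A]
    [IsScalarTower k (MvPowerSeries (Fin r) k) A] [Module.Finite (MvPowerSeries (Fin r) k) A]
    [IsLocalHom (algebraMap (MvPowerSeries (Fin r) k) A)] : Module.Finite k (ResidueField A) := by
  haveI : Module.Finite k (ResidueField (MvPowerSeries (Fin r) k)) :=
    Module.Finite.of_surjective (Algebra.linearMap k _) fun y => by
      obtain ⟨f, rfl⟩ := residue_surjective y
      refine ⟨MvPowerSeries.constantCoeff f, ?_⟩
      rw [Algebra.linearMap_apply, IsScalarTower.algebraMap_apply k (MvPowerSeries (Fin r) k)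
        (ResidueField (MvPowerSeries (Fin r) k)), ← sub_eq_zero, ResidueField.algebraMap_eq, ← map_sub,
        residue_eq_zero_iff, GrothLib.RegLoc.PS.mem_max k]
      simp [MvPowerSeries.algebraMap_apply]
  haveI : Module.Finite (ResidueField (MvPowerSeries (Fin r) k)) (ResidueField A) :=
    Module.Finite.of_restrictScalars_finite (MvPowerSeries (Fin r) k) _ _
  exact Module.Finite.trans (ResidueField (MvPowerSeries (Fin r) k)) _

/-- In the separable case the generic rank is the dimension. -/
theorem finrank_generic [IsDomain A] {r : ℕ} [Algebra (MvPowerSeries (Fin r) k) A]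
    [IsScalarTower k (MvPowerSeries (Fin r) k) A] [Module.Finite (MvPowerSeries (Fin r) k) A]
    (hinj : Function.Injective (algebraMap (MvPowerSeries (Fin r) k) A))
    (hsep : ∀ a : A, ∃ P : Polynomial (MvPowerSeries (Fin r) k), Polynomial.aeval a P = 0 ∧
      (P.map (algebraMap (MvPowerSeries (Fin r) k) (FractionRing (MvPowerSeries (Fin r) k)))).Separable) :
    Module.finrank (FractionRing A) (FractionRing A ⊗[A] Om k A) = r := by
  classical
  let P := MvPowerSeries (Fin r) k
  haveI : IsLocalHom (algebraMap P A) :=
    RingHom.IsIntegral.isLocalHom (Algebra.IsIntegral.of_finite P A).isIntegral hinj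
  haveI := finite_residueField k A (r := r)
  haveI := finite_kaehler_residueField k A
  haveI := finite_om' k A
  have hdim : ringKrullDim (A ⧸ (⊥ : Ideal A)) = r := by
    rw [ringKrullDim_eq_of_ringEquiv (RingEquiv.quotientBot A), GrothLib.Dim.ringKrullDim_eq_of_isIntegral (R := P) hinj,
      ringKrullDim_powerSeries]
  refine le_antisymm ?_ ?_
  · -- the differentials of the variables generate
    let E := FractionRing A
    let W : Submodule E (E ⊗[A] Om k A) :=
      Submodule.span E (Set.range fun i => (1 : E) ⊗ₜ[A] dhat k A (algebraMap P A (MvPowerSeries.X i)))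
    let K := Submodule.span A (Set.range fun i => dhat k A (algebraMap P A (MvPowerSeries.X i)))
    have hK : ∀ z ∈ K, (1 : E) ⊗ₜ[A] z ∈ W := fun z hz => by
      induction hz using Submodule.span_induction with
      | mem z hz => obtain ⟨i, rfl⟩ := hz; exact Submodule.subset_span ⟨i, rfl⟩
      | zero => rw [TensorProduct.tmul_zero]; exact W.zero_mem
      | add a b _ _ ha hb => rw [TensorProduct.tmul_add]; exact W.add_mem ha hb
      | smul c a _ ha => rw [TensorProduct.tmul_smul, ← algebraMap_smul E c]; exact W.smul_mem _ ha
    have hgen : ∀ a : A, (1 : E) ⊗ₜ[A] dhat k A a ∈ W := fun a => by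
      obtain ⟨Q, hQ, hQs⟩ := hsep a
      haveI : FaithfulSMul P E := (faithfulSMul_iff_algebraMap_injective P E).mpr (by
        rw [IsScalarTower.algebraMap_eq P A E]
        exact (IsFractionRing.injective A E).comp hinj)
      letI : Algebra (FractionRing P) E := FractionRing.liftAlgebra P E
      haveI : IsScalarTower P (FractionRing P) E := FractionRing.isScalarTower_liftAlgebra P E
      have hroot : Polynomial.aeval (algebraMap A E a) (Q.map (algebraMap P (FractionRing P))) = 0 := by
        rw [Polynomial.aeval_map_algebraMap, Polynomial.aeval_algebraMap_apply, hQ, map_zero]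
      have hne : Polynomial.aeval a (Polynomial.derivative Q) ≠ 0 := fun h => hQs.aeval_derivative_ne_zero hroot (by
        rw [Polynomial.derivative_map, Polynomial.aeval_map_algebraMap, Polynomial.aeval_algebraMap_apply, h, map_zero])
      have hmem : Polynomial.aeval a (Polynomial.derivative Q) • dhat k A a ∈ K := by
        rw [show K = _ from (relSpan_powerSeries k A fun i => X_mem_of_isLocalHom k A i).symm, ← ker_toRel k A P,
          LinearMap.mem_ker, map_smul, toRel_dhat, ← Derivation.map_aeval, hQ, map_zero]
      have h1 := hK _ hmem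
      rw [TensorProduct.tmul_smul, ← algebraMap_smul E] at h1
      exact (Submodule.smul_mem_iff _ ((map_ne_zero_iff _ (IsFractionRing.injective A E)).2 hne)).1 h1
    have hW : W = ⊤ := by
      rw [eq_top_iff]
      rintro z -
      induction z with
      | zero => exact W.zero_mem
      | add a b ha hb => exact W.add_mem ha hb
      | tmul c z =>
        rw [show c ⊗ₜ[A] z = c • ((1 : E) ⊗ₜ[A] z) by rw [TensorProduct.smul_tmul', smul_eq_mul, mul_one]]
        refine W.smul_mem _ ?_
        have hz : z ∈ Submodule.span A (Set.range (dhat k A)) := by rw [span_dhat k A]; trivial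
        induction hz using Submodule.span_induction with
        | mem z hz => obtain ⟨a, rfl⟩ := hz; exact hgen a
        | zero => rw [TensorProduct.tmul_zero]; exact W.zero_mem
        | add a b _ _ ha hb => rw [TensorProduct.tmul_add]; exact W.add_mem ha hb
        | smul c a _ ha => rw [TensorProduct.tmul_smul, ← algebraMap_smul E c]; exact W.smul_mem _ ha
    rw [← finrank_top E (E ⊗[A] Om k A), ← hW]
    exact (finrank_range_le_card _).trans (Fintype.card_fin r).le
  · obtain ⟨w, hw⟩ := exists_frac_gens (A := A) (M := Om k A)
    exact dim_le_of_generators k A ⊥ ⊥ le_rfl hdim w fun x => by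
      obtain ⟨t, ht, h⟩ := hw x
      exact ⟨t, by simpa using ht, h⟩

end GrothLib.CKaehler2
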