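import Groth.Agent.Lib.CKaehler2.GenRank

/-!
# Generators of the completed differentials at a prime
-/

universe u

open IsLocalRing TensorProduct

set_option linter.style.haveILetI false

noncomputable section

namespace GrothLib.CKaehler2

/-- Spanning after localisation, by elements. -/
theorem span_localized_iff {A M : Type u} [CommRing A] [AddCommGroup M] [Module A M] (p : Ideal A) [p.IsPrime]
    {ι : Type*} (ω : ι → M) :
    Submodule.span (Localization.AtPrime p) (Set.range fun i => LocalizedModule.mkLinearMap p.primeCompl M (ω i)) = ⊤ ↔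
      ∀ x : M, ∃ t ∉ p, t • x ∈ Submodule.span A (Set.range ω) := by
  constructor
  · intro h x
    have hx : LocalizedModule.mkLinearMap p.primeCompl M x ∈
        (Submodule.span A (Set.range ω)).localized' (Localization.AtPrime p) p.primeCompl
          (LocalizedModule.mkLinearMap p.primeCompl M) := by
      rw [Submodule.localized'_span, ← Set.range_comp]
      exact h.ge trivial
    obtain ⟨m, hm, t, ht⟩ := hx
    rw [IsLocalizedModule.mk'_eq_iff, Submonoid.smul_def, ← map_smul] at ht
    obtain ⟨c, hc⟩ := (IsLocalizedModule.eq_iff_exists p.primeCompl (LocalizedModule.mkLinearMap p.primeCompl M)).1 ht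
    refine ⟨(c : A) * (t : A), Submonoid.mul_mem _ c.2 t.2, ?_⟩
    rw [mul_smul]
    simp only [Submonoid.smul_def] at hc
    rw [← hc]
    exact Submodule.smul_mem _ _ hm
  · intro h
    rw [eq_top_iff]
    intro y _
    obtain ⟨⟨x, s⟩, rfl⟩ := IsLocalizedModule.mk'_surjective p.primeCompl (LocalizedModule.mkLinearMap p.primeCompl M) y
    obtain ⟨t, ht, hmem⟩ := h x
    have h1 : IsLocalizedModule.mk' (LocalizedModule.mkLinearMap p.primeCompl M) x s ∈
        (Submodule.span A (Set.range ω)).localized' (Localization.AtPrime p) p.primeCompl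
          (LocalizedModule.mkLinearMap p.primeCompl M) := by
      refine ⟨t • x, hmem, ⟨t, ht⟩ * s, ?_⟩
      exact IsLocalizedModule.mk'_cancel_left (LocalizedModule.mkLinearMap p.primeCompl M) x ⟨t, ht⟩ s
    rw [Submodule.localized'_span, ← Set.range_comp] at h1
    exact h1

/-- Generators of a localised module may be taken without denominators. -/
theorem exists_numerators {A M : Type u} [CommRing A] [AddCommGroup M] [Module A M] (p : Ideal A) [p.IsPrime]
    {ι : Type*} (s : ι → LocalizedModule p.primeCompl M)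
    (hs : Submodule.span (Localization.AtPrime p) (Set.range s) = ⊤) :
    ∃ ω : ι → M, ∀ x : M, ∃ t ∉ p, t • x ∈ Submodule.span A (Set.range ω) := by
  choose ω hω using fun i => IsLocalizedModule.mk'_surjective p.primeCompl (LocalizedModule.mkLinearMap p.primeCompl M) (s i)
  refine ⟨fun i => (ω i).1, (span_localized_iff p _).1 (eq_top_iff.2 (hs ▸ Submodule.span_le.2 ?_))⟩
  rintro _ ⟨i, rfl⟩
  have hu := IsLocalization.map_units (Localization.AtPrime p) (ω i).2
  refine (Submodule.smul_mem_iff_of_isUnit _ hu).1 ?_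
  rw [← hω i]
  simp only [Function.uncurry_def, algebraMap_smul]
  rw [← Submonoid.smul_def, IsLocalizedModule.mk'_cancel']
  exact Submodule.subset_span ⟨i, rfl⟩

/-- Nakayama at a prime. -/
theorem gens_of_fibre {A M : Type u} [CommRing A] [AddCommGroup M] [Module A M] [Module.Finite A M] (p : Ideal A)
    [p.IsPrime] {ι : Type*} (ω : ι → M)
    (h : Submodule.span p.ResidueField (Set.range fun i => (1 : p.ResidueField) ⊗ₜ[A] ω i) = ⊤) (x : M) :
    ∃ t ∉ p, t • x ∈ Submodule.span A (Set.range ω) := by
  set N := Submodule.span A (Set.range ω)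
  have hsub : Subsingleton (p.ResidueField ⊗[A] (M ⧸ N)) := by
    have hzero : (⊤ : Submodule p.ResidueField (p.ResidueField ⊗[A] M)) ≤ LinearMap.ker (N.mkQ.baseChange p.ResidueField) := by
      rw [← h, Submodule.span_le]
      rintro _ ⟨i, rfl⟩
      have h0 : N.mkQ (ω i) = 0 := (Submodule.Quotient.mk_eq_zero N).2 (Submodule.subset_span ⟨i, rfl⟩)
      simp [h0]
    refine ⟨fun a b => ?_⟩
    obtain ⟨a, rfl⟩ := LinearMap.lTensor_surjective p.ResidueField N.mkQ_surjective a
    obtain ⟨b, rfl⟩ := LinearMap.lTensor_surjective p.ResidueField N.mkQ_surjective b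
    exact (hzero (x := a) trivial).trans (hzero (x := b) trivial).symm
  have hns : (⟨p, inferInstance⟩ : PrimeSpectrum A) ∉ Module.support A (M ⧸ N) := by
    rw [Module.mem_support_iff_nontrivial_residueField_tensorProduct]
    exact not_nontrivial _
  obtain ⟨t, ht, htx⟩ := Module.notMem_support_iff'.1 hns (N.mkQ x)
  exact ⟨t, ht, (Submodule.Quotient.mk_eq_zero N).1 (by simpa using htx)⟩

/-- Elements generating at a prime span the fibre. -/
theorem fibre_of_gens {A M : Type u} [CommRing A] [AddCommGroup M] [Module A M] (p : Ideal A)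
    [p.IsPrime] {ι : Type*} (ω : ι → M) (h : ∀ x : M, ∃ t ∉ p, t • x ∈ Submodule.span A (Set.range ω)) :
    Submodule.span p.ResidueField (Set.range fun i => (1 : p.ResidueField) ⊗ₜ[A] ω i) = ⊤ := by
  rw [eq_top_iff]
  rintro z -
  induction z with
  | zero => exact Submodule.zero_mem _
  | add a b ha hb => exact Submodule.add_mem _ ha hb
  | tmul c x =>
    obtain ⟨t, ht, hx⟩ := h x
    obtain ⟨a, ha⟩ := (Finsupp.mem_span_range_iff_exists_finsupp).1 hx
    have hu : algebraMap A p.ResidueField t ≠ 0 := fun h0 => ht ((Ideal.algebraMap_residueField_eq_zero).1 h0)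
    have h1 : c ⊗ₜ[A] x = (c * (algebraMap A p.ResidueField t)⁻¹) • ((1 : p.ResidueField) ⊗ₜ[A] (t • x)) := by
      rw [TensorProduct.tmul_smul, ← algebraMap_smul p.ResidueField t ((1 : p.ResidueField) ⊗ₜ[A] x), smul_smul,
        mul_assoc, inv_mul_cancel₀ hu, mul_one, TensorProduct.smul_tmul', smul_eq_mul, mul_one]
    rw [h1, ← ha, Finsupp.sum, TensorProduct.tmul_sum]
    refine Submodule.smul_mem _ _ (Submodule.sum_mem _ fun i _ => ?_)
    rw [TensorProduct.tmul_smul, ← algebraMap_smul p.ResidueField (a i)]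
    exact Submodule.smul_mem _ _ (Submodule.subset_span ⟨i, rfl⟩)

variable (k : Type u) [Field k] (A : Type u) [CommRing A] [IsLocalRing A] [IsNoetherianRing A] [Algebra k A]
  [IsAdicComplete (maximalIdeal A) A] [Module.Finite k (ResidueField A)]

omit [IsNoetherianRing A] [IsAdicComplete (maximalIdeal A) A] in
theorem finite_kaehler_residueField : Module.Finite (ResidueField A) (Ω[ResidueField A⁄k]) := inferInstance

theorem finite_om' : Module.Finite A (Om k A) :=
  haveI := finite_kaehler_residueField k A
  finite_om k A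

/-- Given non-units off `p`, some unit multiples have differentials spanning as much of the fibre at `p` as possible. -/
theorem exists_units_span (p : Ideal A) [p.IsPrime] : ∀ (M : ℕ) (x : Fin M → A), (∀ i, x i ∉ p) →
    ∃ u : Fin M → Aˣ, Submodule.span p.ResidueField
        (Set.range fun i => (1 : p.ResidueField) ⊗ₜ[A] dhat k A ((u i : A) * x i)) = ⊤ ∨
      M ≤ Module.finrank p.ResidueField (Submodule.span p.ResidueField
        (Set.range fun i => (1 : p.ResidueField) ⊗ₜ[A] dhat k A ((u i : A) * x i))) := by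
  haveI := finite_om' k A
  haveI := finite_kaehler_residueField k A
  intro M
  induction M with
  | zero => intro x _; exact ⟨fun i => 1, Or.inr (Nat.zero_le _)⟩
  | succ M ih =>
    intro x hx
    obtain ⟨u, hu⟩ := ih (fun i => x i.castSucc) fun i => hx _
    let δ : A → p.ResidueField ⊗[A] Om k A := fun a => 1 ⊗ₜ dhat k A a
    set W := Submodule.span p.ResidueField (Set.range fun i : Fin M => δ ((u i : A) * x i.castSucc)) with hW
    have hset : ∀ v : Aˣ, (Set.range fun i : Fin (M + 1) => δ (((Fin.snoc u v : Fin (M + 1) → Aˣ) i : A) * x i)) =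
        insert (δ ((v : A) * x (Fin.last M))) (Set.range fun i : Fin M => δ ((u i : A) * x i.castSucc)) := by
      intro v
      ext z
      constructor
      · rintro ⟨i, rfl⟩
        refine Fin.lastCases ?_ (fun j => ?_) i
        · left; simp
        · right; exact ⟨j, by simp⟩
      · rintro (rfl | ⟨j, rfl⟩)
        · exact ⟨Fin.last M, by simp⟩
        · exact ⟨j.castSucc, by simp⟩
    by_cases hWtop : W = ⊤
    · refine ⟨Fin.snoc u 1, Or.inl ?_⟩
      show Submodule.span _ (Set.range fun i => δ _) = ⊤
      rw [hset 1, Submodule.span_insert, ← hW, hWtop, sup_top_eq]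
    have hM : M ≤ Module.finrank p.ResidueField W := hu.resolve_left hWtop
    -- some unit multiple of the new element leaves `W`
    obtain ⟨v, hv⟩ : ∃ v : Aˣ, δ ((v : A) * x (Fin.last M)) ∉ W := by
      by_contra hcon
      push Not at hcon
      apply hWtop
      have hxne : algebraMap A p.ResidueField (x (Fin.last M)) ≠ 0 := fun h0 =>
        hx (Fin.last M) ((Ideal.algebraMap_residueField_eq_zero).1 h0)
      have hleib : ∀ a b : A, δ (a * b) = algebraMap A p.ResidueField a • δ b + algebraMap A p.ResidueField b • δ a := by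
        intro a b
        simp only [δ, Derivation.leibniz, TensorProduct.tmul_add, TensorProduct.tmul_smul, algebraMap_smul]
      have hx0 : δ (x (Fin.last M)) ∈ W := by simpa using hcon 1
      have hunit : ∀ v : Aˣ, δ (v : A) ∈ W := fun v => by
        have h := hcon v
        rw [hleib] at h
        exact (Submodule.smul_mem_iff _ hxne).1 ((Submodule.add_mem_iff_right _ (W.smul_mem _ hx0)).1 h)
      have hall : ∀ a : A, δ a ∈ W := fun a => by
        rcases IsLocalRing.isUnit_or_isUnit_one_sub_self a with h | h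
        · exact hunit h.unit
        · have h1 := hunit h.unit
          simp only [δ, IsUnit.unit_spec, map_sub, Derivation.map_one_eq_zero, zero_sub, TensorProduct.tmul_neg] at h1
          exact (Submodule.neg_mem_iff W).1 h1
      rw [eq_top_iff, ← fibre_of_gens p (fun a : A => dhat k A a) fun z => ⟨1, p.primeCompl.one_mem, by
        rw [one_smul, span_dhat k A]; trivial⟩, Submodule.span_le]
      rintro _ ⟨a, rfl⟩
      exact hall a
    refine ⟨Fin.snoc u v, Or.inr ?_⟩
    show M + 1 ≤ Module.finrank p.ResidueField (Submodule.span _ (Set.range fun i => δ _))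
    rw [hset v]
    have hlt : W < Submodule.span p.ResidueField (insert (δ ((v : A) * x (Fin.last M)))
        (Set.range fun i : Fin M => δ ((u i : A) * x i.castSucc))) :=
      lt_of_le_of_ne (Submodule.span_mono (Set.subset_insert _ _)) fun h => hv (by
        rw [h]; exact Submodule.subset_span (Set.mem_insert _ _))
    exact Nat.succ_le_of_lt (hM.trans_lt (Submodule.finrank_lt_finrank_of_lt hlt))

/-- If `m` elements generate at `p`, then so do the differentials of unit multiples of any `m` elements off `p`. -/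
theorem exists_units_gens (p : Ideal A) [p.IsPrime] {m : ℕ} (ω : Fin m → Om k A)
    (hω : ∀ z : Om k A, ∃ t ∉ p, t • z ∈ Submodule.span A (Set.range ω)) (x : Fin m → A) (hx : ∀ i, x i ∉ p) :
    ∃ u : Fin m → Aˣ, ∀ z : Om k A, ∃ t ∉ p,
      t • z ∈ Submodule.span A (Set.range fun i => dhat k A ((u i : A) * x i)) := by
  haveI := finite_om' k A
  obtain ⟨u, hu⟩ := exists_units_span k A p m x hx
  refine ⟨u, gens_of_fibre p _ (hu.elim id fun h => ?_)⟩
  refine Submodule.eq_top_of_finrank_eq (le_antisymm (Submodule.finrank_le _) (le_trans ?_ h))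
  rw [← finrank_top p.ResidueField (p.ResidueField ⊗[A] Om k A), ← fibre_of_gens p ω hω]
  exact (finrank_range_le_card _).trans (Fintype.card_fin m).le

/-- The fibre of the completed differentials at `p ⊇ q` has rank at least `dim A/q`. -/
theorem dim_le_finrank_fibre (p q : Ideal A) [p.IsPrime] [q.IsPrime] (hqp : q ≤ p) {n : ℕ}
    (hn : ringKrullDim (A ⧸ q) = n) : n ≤ Module.finrank p.ResidueField (p.ResidueField ⊗[A] Om k A) := by
  haveI := finite_om' k A
  haveI := finite_kaehler_residueField k A
  let e := Module.finBasis p.ResidueField (p.ResidueField ⊗[A] Om k A)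
  have hrep : ∀ z : p.ResidueField ⊗[A] Om k A, ∃ (t : p.ResidueField) (w : Om k A), t ≠ 0 ∧ t • z = 1 ⊗ₜ[A] w := by
    intro z
    induction z with
    | zero => exact ⟨1, 0, one_ne_zero, by simp⟩
    | tmul c w =>
      obtain ⟨a, b, hb, hab⟩ := IsFractionRing.div_surjective (A ⧸ p) c
      obtain ⟨a, rfl⟩ := Ideal.Quotient.mk_surjective a
      obtain ⟨b, rfl⟩ := Ideal.Quotient.mk_surjective b
      have hb0 : algebraMap A p.ResidueField b ≠ 0 := fun h0 => nonZeroDivisors.ne_zero hb
        (Ideal.Quotient.eq_zero_iff_mem.2 ((Ideal.algebraMap_residueField_eq_zero).1 h0))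
      simp only [← Ideal.Quotient.algebraMap_eq, ← IsScalarTower.algebraMap_apply] at hab
      refine ⟨algebraMap A p.ResidueField b, a • w, hb0, ?_⟩
      rw [← hab, TensorProduct.smul_tmul', TensorProduct.tmul_smul,
        ← algebraMap_smul p.ResidueField a ((1 : p.ResidueField) ⊗ₜ[A] w), TensorProduct.smul_tmul', smul_eq_mul,
        smul_eq_mul, mul_one, mul_div_cancel₀ _ hb0]
    | add z₁ z₂ h₁ h₂ =>
      obtain ⟨t₁, w₁, ht₁, hw₁⟩ := h₁
      obtain ⟨t₂, w₂, ht₂, hw₂⟩ := h₂
      obtain ⟨a₁, b₁, hb₁, hab₁⟩ := IsFractionRing.div_surjective (A ⧸ p) t₁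
      obtain ⟨a₂, b₂, hb₂, hab₂⟩ := IsFractionRing.div_surjective (A ⧸ p) t₂
      obtain ⟨a₁, rfl⟩ := Ideal.Quotient.mk_surjective a₁
      obtain ⟨b₁, rfl⟩ := Ideal.Quotient.mk_surjective b₁
      obtain ⟨a₂, rfl⟩ := Ideal.Quotient.mk_surjective a₂
      obtain ⟨b₂, rfl⟩ := Ideal.Quotient.mk_surjective b₂
      simp only [← IsScalarTower.algebraMap_apply, ← Ideal.Quotient.algebraMap_eq] at hab₁ hab₂
      have ha₁ : algebraMap A p.ResidueField a₁ ≠ 0 := fun h0 => ht₁ (by rw [← hab₁, h0, zero_div])
      have ha₂ : algebraMap A p.ResidueField a₂ ≠ 0 := fun h0 => ht₂ (by rw [← hab₂, h0, zero_div])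
      have hb₁' : algebraMap A p.ResidueField b₁ ≠ 0 := fun h0 => ht₁ (by rw [← hab₁, h0, div_zero])
      have hb₂' : algebraMap A p.ResidueField b₂ ≠ 0 := fun h0 => ht₂ (by rw [← hab₂, h0, div_zero])
      refine ⟨algebraMap A p.ResidueField a₁ * algebraMap A p.ResidueField a₂,
        (a₂ * b₁) • w₁ + (a₁ * b₂) • w₂, mul_ne_zero ha₁ ha₂, ?_⟩
      rw [TensorProduct.tmul_add, TensorProduct.tmul_smul, TensorProduct.tmul_smul,
        ← algebraMap_smul p.ResidueField (a₂ * b₁), ← algebraMap_smul p.ResidueField (a₁ * b₂),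
        ← hw₁, ← hw₂, smul_smul, smul_smul, smul_add, map_mul, map_mul, ← hab₁, ← hab₂]
      congr 1 <;> congr 1 <;> field_simp
  choose t w ht hw using fun i => hrep (e i)
  have hspan' : Submodule.span p.ResidueField (Set.range fun i => (1 : p.ResidueField) ⊗ₜ[A] w i) = ⊤ := by
    rw [eq_top_iff, ← e.span_eq, Submodule.span_le]
    rintro _ ⟨i, rfl⟩
    rw [← inv_smul_smul₀ (ht i) (e i), hw i]
    exact Submodule.smul_mem _ _ (Submodule.subset_span ⟨i, rfl⟩)
  exact dim_le_of_generators k A p q hqp hn w (gens_of_fibre p w hspan')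

end GrothLib.CKaehler2

namespace GrothLib.CKaehler2

/-- The dimension of a Noetherian local ring is a natural number. -/
theorem exists_dim (B : Type u) [CommRing B] [IsLocalRing B] [IsNoetherianRing B] :
    ∃ n : ℕ, ringKrullDim B = n := by
  rw [← IsLocalRing.maximalIdeal_height_eq_ringKrullDim]
  obtain ⟨n, hn⟩ := ENat.ne_top_iff_exists.1 (Ideal.height_ne_top (maximalIdeal.isMaximal B).ne_top)
  exact ⟨n, by rw [← hn]; rfl⟩

/-- Multiplying generators by units does not change the radical. -/
theorem radical_units_mul {B : Type u} [CommRing B] [IsLocalRing B] {ι : Type*} (x : ι → B) (u : ι → Bˣ)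
    (h : maximalIdeal B ≤ (Ideal.span (Set.range x)).radical) :
    maximalIdeal B ≤ (Ideal.span (Set.range fun i => (u i : B) * x i)).radical := by
  refine h.trans (Ideal.radical_mono (Ideal.span_le.2 ?_))
  rintro _ ⟨i, rfl⟩
  have h1 := Ideal.mul_mem_left (Ideal.span (Set.range fun i => (u i : B) * x i)) ((↑(u i)⁻¹ : B))
    (Ideal.subset_span ⟨i, rfl⟩)
  simpa using h1

variable (k : Type u) [Field k] (A : Type u) [CommRing A] [IsLocalRing A] [IsNoetherianRing A] [Algebra k A]
  [IsAdicComplete (maximalIdeal A) A] [Module.Finite k (ResidueField A)]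

/-- If `m` elements generate at a non-maximal prime `p` on a component of top dimension, there are `m` elements
of the maximal ideal outside `p` generating an ideal primary to the maximal ideal. -/
theorem exists_parameters (p : Ideal A) [p.IsPrime] (hp : p ≠ maximalIdeal A) (q : Ideal A) [q.IsPrime]
    (hqp : q ≤ p) (hqd : ringKrullDim (A ⧸ q) = ringKrullDim A) {m : ℕ} (ω : Fin m → Om k A)
    (hω : ∀ z : Om k A, ∃ t ∉ p, t • z ∈ Submodule.span A (Set.range ω)) :
    ∃ x : Fin m → A, (∀ i, x i ∈ maximalIdeal A) ∧ (∀ i, x i ∉ p) ∧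
      maximalIdeal A ≤ (Ideal.span (Set.range x)).radical := by
  classical
  obtain ⟨s, hmin, hcard⟩ := Ideal.exists_finset_card_eq_height_of_isNoetherianRing (maximalIdeal A)
  have hrad : maximalIdeal A ≤ (Ideal.span (s : Set A)).radical := by
    rw [Ideal.radical_eq_sInf]
    exact le_sInf fun P hP => hmin.2 ⟨hP.2, hP.1⟩ (le_maximalIdeal hP.2.ne_top)
  have hsm : s.card ≤ m := by
    refine dim_le_of_generators k A p q hqp ?_ ω hω
    rw [hqd, ← IsLocalRing.maximalIdeal_height_eq_ringKrullDim, ← hcard]
    rfl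
  obtain ⟨a, has, hap⟩ : ∃ a ∈ s, a ∉ p := by
    by_contra hcon
    push Not at hcon
    exact hp (le_antisymm (le_maximalIdeal (Ideal.IsPrime.ne_top inferInstance))
      (hrad.trans (Ideal.IsPrime.radical_le_iff inferInstance |>.2 (Ideal.span_le.2 hcon))))
  let fix : A → A := fun z => if z ∈ p then z + a else z
  have hfix : ∀ z, fix z ∉ p := fun z => by
    by_cases hz : z ∈ p
    · show (if z ∈ p then z + a else z) ∉ p
      rw [if_pos hz]
      exact fun h => hap ((Ideal.add_mem_iff_right p hz).1 h)
    · show (if z ∈ p then z + a else z) ∉ p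
      rw [if_neg hz]
      exact hz
  have hfa : fix a = a := by simp [fix, hap]
  have hsmax : ∀ z ∈ s, z ∈ maximalIdeal A := fun z hz => hmin.1.2 (Ideal.subset_span hz)
  let x : Fin m → A := fun i => if h : (i : ℕ) < s.card then fix (s.equivFin.symm ⟨i, h⟩ : A) else a
  have hx : ∀ z ∈ s, fix z ∈ Set.range x := fun z hz => ⟨Fin.castLE hsm (s.equivFin ⟨z, hz⟩), by
    show dite _ _ _ = _
    rw [dif_pos (show ((Fin.castLE hsm (s.equivFin ⟨z, hz⟩) : Fin m) : ℕ) < s.card from (s.equivFin ⟨z, hz⟩).2)]
    exact congrArg (fun w : s => fix (w : A)) (s.equivFin.symm_apply_apply ⟨z, hz⟩)⟩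
  refine ⟨x, fun i => ?_, fun i => ?_, hrad.trans (Ideal.radical_mono (Ideal.span_le.2 fun z hz => ?_))⟩
  · simp only [x]
    split
    · simp only [fix]
      split
      · exact add_mem (hsmax _ (s.equivFin.symm _).2) (hsmax a has)
      · exact hsmax _ (s.equivFin.symm _).2
    · exact hsmax a has
  · simp only [x]
    split
    · exact hfix _
    · exact hap
  · have ha : a ∈ Ideal.span (Set.range x) := Ideal.subset_span (hfa ▸ hx a has)
    have hz' : fix z ∈ Ideal.span (Set.range x) := Ideal.subset_span (hx z hz)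
    by_cases hzp : z ∈ p
    · simp only [fix, hzp, if_true] at hz'
      exact (Ideal.add_mem_iff_left _ ha).1 hz'
    · simp only [fix, hzp, if_false] at hz'
      exact hz'

end GrothLib.CKaehler2
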