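import Groth.Agent.Lib.CKaehler2.GenRank
import Groth.Agent.Lib.J2.Detect
import Groth.Agent.S4551

/-!
# Differentials and imperfection of the fraction field of a complete local domain
-/

universe u

open IsLocalRing TensorProduct

set_option linter.style.haveILetI false

noncomputable section

namespace GrothLib.CKaehler2

/-- Differentials of a finite extension of a separable extension `M/k`. -/
theorem rank_kaehler_eq_add_imperfection (k M L : Type u) [Field k] [Field M] [Field L] [Algebra k M] [Algebra k L]
    [Algebra M L] [IsScalarTower k M L] [FiniteDimensional M L] (hM : Algebra.IsGeometricallyReduced k M) :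
    Module.Finite L (LinearMap.ker (KaehlerDifferential.mapBaseChange ℤ k L)) ∧
      Module.rank L (Ω[L⁄k]) = Module.rank L (L ⊗[M] Ω[M⁄k]) +
        (Module.finrank L (LinearMap.ker (KaehlerDifferential.mapBaseChange ℤ k L)) : Cardinal.{u}) := by
  obtain ⟨hΩfin, hΥfin, heq⟩ := Groth.Agent.S2469.result (K := M) (L := L)
  haveI := hΩfin
  haveI := hΥfin
  have heq' : Module.finrank L (Ω[L⁄M]) = Module.finrank L (EGA41.imperfection ℤ M L) := by
    rw [show Algebra.trdeg M L = 0 from trdeg_eq_zero,
      show Cardinal.toNat (0 : Cardinal.{u}) = 0 from map_zero _] at heq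
    omega
  have hinjM : Function.Injective (KaehlerDifferential.mapBaseChange ℤ k M) :=
    GrothLib.SepField.isGeometricallyReduced_iff_injective_int.1 hM
  let KM : Submodule L (L ⊗[M] Ω[M⁄ℤ]) := LinearMap.ker (KaehlerDifferential.mapBaseChange ℤ M L)
  let Kk : Submodule L (L ⊗[k] Ω[k⁄ℤ]) := LinearMap.ker (KaehlerDifferential.mapBaseChange ℤ k L)
  let Kγ : Submodule L (L ⊗[M] Ω[M⁄k]) := LinearMap.ker (KaehlerDifferential.mapBaseChange k M L)
  let j : L ⊗[k] Ω[k⁄ℤ] →ₗ[L] L ⊗[M] Ω[M⁄ℤ] :=
    (KaehlerDifferential.mapBaseChange ℤ k M).baseChange L ∘ₗ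
      (TensorProduct.AlgebraTensorModule.cancelBaseChange k M L L (Ω[k⁄ℤ])).symm.toLinearMap
  have hj : Function.Injective j :=
    (Module.Flat.lTensor_preserves_injective_linearMap (M := L) _ hinjM).comp (LinearEquiv.injective _)
  have hjt : ∀ (c : L) (w : Ω[k⁄ℤ]), j (c ⊗ₜ w) = c ⊗ₜ KaehlerDifferential.map ℤ ℤ k M w := by
    intro c w
    simp [j, KaehlerDifferential.mapBaseChange_tmul]
  let q : L ⊗[M] Ω[M⁄ℤ] →ₗ[L] L ⊗[M] Ω[M⁄k] := (KaehlerDifferential.map ℤ k M M).baseChange L
  have hqj : Function.Exact j q := by
    have h : Function.Exact ((KaehlerDifferential.mapBaseChange ℤ k M).baseChange L) q :=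
      lTensor_exact L (KaehlerDifferential.exact_mapBaseChange_map ℤ k M) (KaehlerDifferential.map_surjective ℤ k M)
    intro z
    rw [h z]
    constructor
    · rintro ⟨w, rfl⟩
      exact ⟨TensorProduct.AlgebraTensorModule.cancelBaseChange k M L L (Ω[k⁄ℤ]) w, by simp [j]⟩
    · rintro ⟨w, rfl⟩
      exact ⟨_, rfl⟩
  have m2 : ((KaehlerDifferential.map ℤ ℤ M L).restrictScalars k) ∘ₗ KaehlerDifferential.map ℤ ℤ k M =
      KaehlerDifferential.map ℤ ℤ k L :=
    Derivation.liftKaehlerDifferential_unique _ _ (Derivation.ext fun a => by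
      simp [← IsScalarTower.algebraMap_apply k M L])
  have hβj : ∀ z, (KaehlerDifferential.mapBaseChange ℤ M L) (j z) = (KaehlerDifferential.mapBaseChange ℤ k L) z := by
    intro z
    induction z with
    | zero => simp
    | add a b ha hb => simp only [map_add, ha, hb]
    | tmul c w =>
      rw [hjt, KaehlerDifferential.mapBaseChange_tmul, KaehlerDifferential.mapBaseChange_tmul]
      exact congrArg (c • ·) (LinearMap.congr_fun m2 w)
  have m1 : ((KaehlerDifferential.map ℤ k L L).restrictScalars M) ∘ₗ KaehlerDifferential.map ℤ ℤ M L =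
      KaehlerDifferential.map k k M L ∘ₗ KaehlerDifferential.map ℤ k M M :=
    Derivation.liftKaehlerDifferential_unique _ _ (Derivation.ext fun b => by simp)
  have hγq : ∀ z, (KaehlerDifferential.mapBaseChange k M L) (q z) = KaehlerDifferential.map ℤ k L L ((KaehlerDifferential.mapBaseChange ℤ M L) z) := by
    intro z
    induction z with
    | zero => simp
    | add a b ha hb => simp only [map_add, ha, hb]
    | tmul c w =>
      have h := LinearMap.congr_fun m1 w
      simp only [LinearMap.comp_apply, LinearMap.coe_restrictScalars] at h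
      rw [LinearMap.baseChange_tmul, KaehlerDifferential.mapBaseChange_tmul,
        KaehlerDifferential.mapBaseChange_tmul, LinearMap.map_smul, h]
  -- the imperfection over `M` maps onto the relative imperfection with kernel the imperfection over `k`
  let T : KM →ₗ[L] Kγ := (q.domRestrict (KM)).codRestrict _ fun z => by
    show (KaehlerDifferential.mapBaseChange k M L) (q z.1) = 0
    rw [hγq, LinearMap.mem_ker.1 z.2, map_zero]
  have hTs : Function.Surjective T := fun w => by
    obtain ⟨η, hη, h⟩ := exists_imperfection_lift ℤ k M L w.1 w.2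
    exact ⟨⟨η, hη⟩, Subtype.ext h⟩
  let jk : Kk →ₗ[L] KM := (j.domRestrict (Kk)).codRestrict _ fun z => by
    show (KaehlerDifferential.mapBaseChange ℤ M L) (j z.1) = 0
    rw [hβj]; exact z.2
  have hjk : Function.Injective jk := fun a b h => Subtype.ext (hj (congrArg Subtype.val h))
  have hTj : LinearMap.ker T = LinearMap.range jk := by
    ext z
    constructor
    · intro hz
      obtain ⟨w, hw⟩ := (hqj z.1).1 (congrArg Subtype.val (LinearMap.mem_ker.1 hz))
      refine ⟨⟨w, ?_⟩, Subtype.ext hw⟩
      show (KaehlerDifferential.mapBaseChange ℤ k L) w = 0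
      rw [← hβj, hw]; exact z.2
    · rintro ⟨w, rfl⟩
      exact Subtype.ext (hqj.apply_apply_eq_zero w.1)
  haveI : Module.Finite L (KM) := hΥfin
  haveI : IsNoetherian L ↥KM := isNoetherian_of_isNoetherianRing_of_finite L ↥KM
  haveI hkfin : Module.Finite L (Kk) := Module.Finite.of_injective jk hjk
  haveI : Module.Finite L (Kγ) := Module.Finite.of_surjective T hTs
  have hcount : Module.finrank L (Ω[L⁄M]) = Module.finrank L (Kγ) + Module.finrank L (Kk) := by
    have h1 := Submodule.finrank_quotient_add_finrank (R := L) (M := ↥KM) (LinearMap.ker T)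
    have h2 := LinearEquiv.finrank_eq (LinearMap.quotKerEquivOfSurjective (R := L) (M := ↥KM) (M₂ := ↥Kγ) T hTs)
    have h3 : Module.finrank L (LinearMap.ker T) = Module.finrank L Kk := by
      rw [hTj]; exact LinearMap.finrank_range_of_inj hjk
    rw [h2, h3] at h1
    rw [heq']
    exact h1.symm
  refine ⟨hkfin, ?_⟩
  -- rank count for `(KaehlerDifferential.mapBaseChange k M L)`
  have hex := KaehlerDifferential.exact_mapBaseChange_map k M L
  let e : ((Ω[L⁄k]) ⧸ LinearMap.range (KaehlerDifferential.mapBaseChange k M L)) ≃ₗ[L] Ω[L⁄M] :=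
    (Submodule.quotEquivOfEq _ _ hex.linearMap_ker_eq.symm).trans
      (LinearMap.quotKerEquivOfSurjective _ (KaehlerDifferential.map_surjective k M L))
  have h1 := Submodule.rank_quotient_add_rank (LinearMap.range (KaehlerDifferential.mapBaseChange k M L))
  have h2 := LinearMap.rank_range_add_rank_ker (KaehlerDifferential.mapBaseChange k M L)
  rw [e.rank_eq, ← Module.finrank_eq_rank L (Ω[L⁄M]), hcount, Nat.cast_add] at h1
  change Module.rank L _ + Module.rank L Kγ = _ at h2
  rw [← Module.finrank_eq_rank L Kγ] at h2
  refine Cardinal.eq_of_add_eq_add_right (b := (Module.finrank L (Kγ) : Cardinal.{u})) ?_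
    Cardinal.natCast_lt_aleph0
  rw [← h1, ← h2]
  ring

variable (k : Type u) [Field k]

/-- At least `d` independent differentials on `k((T_1, …, T_d))`. -/
theorem le_rank_kaehler_fractionRing (d : ℕ) :
    (d : Cardinal.{u}) ≤ Module.rank (FractionRing (MvPowerSeries (Fin d) k)) (Ω[FractionRing (MvPowerSeries (Fin d) k)⁄k]) := by
  classical
  let P := MvPowerSeries (Fin d) k
  haveI : IsDomain P := NoZeroDivisors.to_isDomain _
  let L0 := FractionRing P
  let D₁ : Derivation k P (Fin d → L0) :=
    Derivation.mk' (LinearMap.pi fun i => (IsScalarTower.toAlgHom k P L0).toLinearMap ∘ₗ (MvPowerSeries.pderiv k i).toLinearMap)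
      fun a b => funext fun i => by simp [Algebra.smul_def]
  have hD₁ : ∀ a i, D₁ a i = algebraMap P L0 (MvPowerSeries.pderiv k i a) := fun _ _ => rfl
  let ψ : Ω[L0⁄k] →ₗ[P] (Fin d → L0) := IsLocalizedModule.lift (nonZeroDivisors P)
    (KaehlerDifferential.map k k P L0) D₁.liftKaehlerDifferential fun s => by
      rw [Module.End.isUnit_iff]
      refine Function.bijective_iff_has_inverse.mpr ⟨fun v => (algebraMap P L0 s)⁻¹ • v, fun v => ?_, fun v => ?_⟩
      all_goals
        simp only [Module.algebraMap_end_apply, ← algebraMap_smul L0 (s : P), smul_smul]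
        first
          | rw [inv_mul_cancel₀ (IsFractionRing.to_map_ne_zero_of_mem_nonZeroDivisors s.2), one_smul]
          | rw [mul_inv_cancel₀ (IsFractionRing.to_map_ne_zero_of_mem_nonZeroDivisors s.2), one_smul]
  let Φ : Ω[L0⁄k] →ₗ[L0] (Fin d → L0) := LinearMap.extendScalarsOfIsLocalization (nonZeroDivisors P) L0 ψ
  have hΦs : Function.Surjective Φ := by
    intro v
    have hv : v ∈ LinearMap.range Φ := by
      rw [pi_eq_sum_univ' v]
      refine Submodule.sum_mem _ fun i _ => Submodule.smul_mem _ _
        ⟨KaehlerDifferential.D k L0 (algebraMap P L0 (MvPowerSeries.X i)), ?_⟩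
      show ψ _ = _
      rw [← KaehlerDifferential.map_D k k P L0 (MvPowerSeries.X i), IsLocalizedModule.lift_apply,
        Derivation.liftKaehlerDifferential_comp_D]
      funext j
      rw [hD₁]
      rcases eq_or_ne j i with rfl | h
      · simp
      · simp [h.symm]
    exact hv
  exact (rank_fin_fun (R := L0) d).ge.trans (LinearMap.rank_le_of_surjective Φ hΦs)

/-- With `[k : k^p]` finite, the differentials of power series over `k` are spanned by those of the variables. -/
theorem span_D_powerSeries (p : ℕ) [Fact p.Prime] [CharP k p] (hk : (frobenius k p).Finite) (d : ℕ) :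
    Submodule.span (MvPowerSeries (Fin d) k)
      (Set.range fun i => KaehlerDifferential.D k (MvPowerSeries (Fin d) k) (MvPowerSeries.X i)) = ⊤ := by
  classical
  let P := MvPowerSeries (Fin d) k
  let F : Subfield k := (frobenius k p).fieldRange
  haveI : FiniteDimensional F k :=
    RingHom.Finite.of_comp_finite (f := (frobenius k p).rangeRestrictField) (g := F.subtype) hk
  let W := Submodule.span P (Set.range fun i => KaehlerDifferential.D k P (MvPowerSeries.X i))
  let Dq : Derivation k P (Ω[P⁄k] ⧸ W) := W.mkQ.compDer (KaehlerDifferential.D k P)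
  have hX : ∀ i, Dq (MvPowerSeries.X i) = 0 := fun i =>
    (Submodule.Quotient.mk_eq_zero W).2 (Submodule.subset_span ⟨i, rfl⟩)
  have hpoly : ∀ g : MvPolynomial (Fin d) k, Dq (g : P) = 0 := by
    intro g
    induction g using MvPolynomial.induction_on with
    | C c =>
      rw [MvPolynomial.coe_C, show MvPowerSeries.C c = algebraMap k P c by simp [P, MvPowerSeries.algebraMap_apply]]
      exact Derivation.map_algebraMap Dq c
    | add a b ha hb => rw [MvPolynomial.coe_add, map_add, ha, hb, add_zero]
    | mul_X a i ha => rw [MvPolynomial.coe_mul, MvPolynomial.coe_X, Derivation.leibniz, ha, hX, smul_zero, smul_zero, add_zero]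
  have hpow : ∀ g : MvPowerSeries (Fin d) F, Dq (GrothLib.J2.powEmb p d F g) = 0 := by
    intro g
    choose h hh using fun n : Fin d →₀ ℕ => (RingHom.mem_fieldRange).1 ((MvPowerSeries.coeff n g).2)
    let h' : P := fun n => h n
    have hg : GrothLib.J2.powEmb p d F g = h' ^ p := by
      rw [← MvPowerSeries.map_frobenius_expand p (Nat.Prime.ne_zero Fact.out)]
      refine MvPowerSeries.ext fun m => ?_
      rw [MvPowerSeries.coeff_map]
      by_cases hm : ∀ i, p ∣ m i
      · rw [GrothLib.J2.eq_smul_div p d hm, GrothLib.J2.coeff_powEmb_smul, MvPowerSeries.coeff_expand_smul]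
        exact (hh _).symm
      · push Not at hm
        obtain ⟨i, hi⟩ := hm
        rw [GrothLib.J2.coeff_powEmb_of_not_dvd p d F g hi, MvPowerSeries.coeff_expand_of_not_dvd p _ _ hi, map_zero]
    rw [hg, Derivation.leibniz_pow, ← Nat.cast_smul_eq_nsmul k, CharP.cast_eq_zero, zero_smul]
  let R' := MvPowerSeries (Fin d) F
  letI : Algebra R' P := (GrothLib.J2.powEmb p d F).toAlgebra
  haveI : Module.Finite R' P := RingHom.finite_algebraMap.1 (GrothLib.J2.finite_powEmb p d F)
  let S : Submodule R' P :=
    { carrier := {f | Dq f = 0}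
      add_mem' := fun {a b} ha hb => by simp only [Set.mem_ofPred_eq, map_add] at ha hb ⊢; rw [ha, hb, add_zero]
      zero_mem' := map_zero Dq
      smul_mem' := fun r f hf => by
        simp only [Set.mem_ofPred_eq] at hf ⊢
        rw [Algebra.smul_def, Derivation.leibniz, hf, show Dq (algebraMap R' P r) = 0 from hpow r, smul_zero,
          smul_zero, add_zero] }
  have hS : S = ⊤ := by
    let J : Ideal P := (maximalIdeal R').map (algebraMap R' P)
    have hXp : ∀ i, (MvPowerSeries.X i : P) ∈ J.radical := fun i => ⟨p, by
      have h : (MvPowerSeries.X i : P) ^ p = algebraMap R' P (MvPowerSeries.X i) := by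
        show _ = GrothLib.J2.powEmb p d F _
        simp [GrothLib.J2.powEmb]
      rw [h]
      exact Ideal.mem_map_of_mem _ (GrothLib.RegLoc.PS.X_mem F i)⟩
    obtain ⟨N, hN⟩ := Ideal.exists_pow_le_of_le_radical_of_fg
      (show GrothLib.AdicFS.varsIdeal k d ≤ J.radical by
        rw [GrothLib.AdicFS.varsIdeal, MvPolynomial.idealOfVars, Ideal.map_span, Ideal.span_le]
        rintro _ ⟨_, ⟨i, rfl⟩, rfl⟩
        rw [MvPowerSeries.algebraMap_apply']
        simpa using hXp i) (Ideal.FG.map (Submodule.fg_span (Set.finite_range _)) _)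
    refine eq_top_iff.2 (Submodule.le_of_le_smul_of_le_jacobson_bot (I := maximalIdeal R') Module.Finite.fg_top
      (maximalIdeal_le_jacobson _) fun f _ => ?_)
    refine Submodule.mem_sup.2 ⟨algebraMap (MvPolynomial (Fin d) k) P (MvPowerSeries.truncTotal N f), ?_,
      f - algebraMap (MvPolynomial (Fin d) k) P (MvPowerSeries.truncTotal N f), ?_, by abel⟩
    · show Dq _ = 0
      rw [MvPowerSeries.algebraMap_apply']
      simpa using hpoly (MvPowerSeries.truncTotal N f)
    · rw [Ideal.smul_top_eq_map, Submodule.restrictScalars_mem]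
      exact hN (GrothLib.AdicFS.sub_truncTotal_mem f N)
  rw [eq_top_iff, ← KaehlerDifferential.span_range_derivation, Submodule.span_le]
  rintro _ ⟨f, rfl⟩
  exact (Submodule.Quotient.mk_eq_zero W).1 (show f ∈ S by rw [hS]; trivial)

end GrothLib.CKaehler2

namespace GrothLib.CKaehler2

variable (k : Type u) [Field k]

/-- A complete local domain with finite residue field is finite over power series in as many variables as its dimension. -/
theorem exists_presentation (C : Type u) [CommRing C] [IsDomain C] [IsNoetherianRing C] [IsLocalRing C] [Algebra k C]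
    [IsAdicComplete (maximalIdeal C) C] [Module.Finite k (ResidueField C)] {n : ℕ} (hn : ringKrullDim C = n) :
    ∃ (_ : Algebra (MvPowerSeries (Fin n) k) C) (_ : IsScalarTower k (MvPowerSeries (Fin n) k) C),
      Module.Finite (MvPowerSeries (Fin n) k) C ∧ Function.Injective (algebraMap (MvPowerSeries (Fin n) k) C) := by
  classical
  obtain ⟨s, hmin, hcard⟩ := Ideal.exists_finset_card_eq_height_of_isNoetherianRing (maximalIdeal C)
  have hsn : s.card = n := by
    have h : ((s.card : ℕ∞) : WithBot ℕ∞) = ringKrullDim C := by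
      rw [hcard, IsLocalRing.maximalIdeal_height_eq_ringKrullDim]
    rw [hn] at h
    exact_mod_cast h
  subst hsn
  let x : Fin s.card → C := fun i => (s.equivFin.symm i : s)
  have hrange : Set.range x = (s : Set C) := Set.ext fun z =>
    ⟨fun ⟨i, hi⟩ => hi ▸ (s.equivFin.symm i).2, fun hz => ⟨s.equivFin ⟨z, hz⟩, by simp [x]⟩⟩
  obtain ⟨alg, tow, -, -, hfin⟩ := exists_finite_of_radical k C x
    (fun i => hmin.1.2 (Ideal.subset_span (s.equivFin.symm i).2)) (by
      rw [hrange, Ideal.radical_eq_sInf]
      exact le_sInf fun P hP => hmin.2 ⟨hP.2, hP.1⟩ (le_maximalIdeal hP.2.ne_top))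
  letI := alg
  haveI := tow
  haveI := hfin
  exact ⟨alg, tow, hfin, injective_of_dim k C hn⟩

/-- Differentials of the fraction field of a complete local domain. -/
theorem rank_kaehler_fractionField (C L : Type u) [CommRing C] [IsDomain C] [IsNoetherianRing C] [IsLocalRing C]
    [Algebra k C] [IsAdicComplete (maximalIdeal C) C] [Module.Finite k (ResidueField C)] {n : ℕ}
    (hn : ringKrullDim C = n) [Field L] [Algebra C L] [IsFractionRing C L] [Algebra k L] [IsScalarTower k C L] :
    Module.Finite L (LinearMap.ker (KaehlerDifferential.mapBaseChange ℤ k L)) ∧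
      Module.rank L (Ω[L⁄k]) =
        Module.rank (FractionRing (MvPowerSeries (Fin n) k)) (Ω[FractionRing (MvPowerSeries (Fin n) k)⁄k]) +
          (Module.finrank L (LinearMap.ker (KaehlerDifferential.mapBaseChange ℤ k L)) : Cardinal.{u}) := by
  obtain ⟨alg, tow, hfin, hinj⟩ := exists_presentation k C hn
  letI := alg
  haveI := tow
  haveI := hfin
  let P := MvPowerSeries (Fin n) k
  haveI : IsDomain (MvPowerSeries (Fin n) k) := NoZeroDivisors.to_isDomain _
  haveI : IsDomain P := ‹IsDomain (MvPowerSeries (Fin n) k)›
  haveI : FaithfulSMul P C := (faithfulSMul_iff_algebraMap_injective P C).mpr hinj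
  haveI : Module.IsTorsionFree P C := FaithfulSMul.to_isTorsionFree P C
  let L0 := FractionRing P
  letI : Algebra P L := ((algebraMap C L).comp (algebraMap P C)).toAlgebra
  haveI : IsScalarTower P C L := IsScalarTower.of_algebraMap_eq fun _ => rfl
  haveI : FaithfulSMul P L := (faithfulSMul_iff_algebraMap_injective P L).mpr ((IsFractionRing.injective C L).comp hinj)
  haveI : FaithfulSMul P (FractionRing C) := (faithfulSMul_iff_algebraMap_injective P (FractionRing C)).mpr (by
    rw [IsScalarTower.algebraMap_eq P C (FractionRing C)]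
    exact (IsFractionRing.injective C (FractionRing C)).comp hinj)
  letI : Algebra (FractionRing P) (FractionRing C) := FractionRing.liftAlgebra P (FractionRing C)
  haveI : IsScalarTower P (FractionRing P) (FractionRing C) := FractionRing.isScalarTower_liftAlgebra P (FractionRing C)
  haveI : FiniteDimensional (FractionRing (MvPowerSeries (Fin n) k)) (FractionRing C) := inferInstance
  letI : Algebra L0 L := FractionRing.liftAlgebra P L
  haveI : IsScalarTower P L0 L := FractionRing.isScalarTower_liftAlgebra P L
  let e : FractionRing C ≃ₐ[C] L := FractionRing.algEquiv C L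
  let e' : FractionRing C →ₗ[L0] L :=
    LinearMap.extendScalarsOfIsLocalization (nonZeroDivisors P) L0 (e.toLinearEquiv.toLinearMap.restrictScalars P)
  haveI : FiniteDimensional L0 L := Module.Finite.of_surjective e' e.surjective
  haveI : IsScalarTower k L0 L := IsScalarTower.of_algebraMap_eq fun c => by
    rw [IsScalarTower.algebraMap_apply k P L0, ← IsScalarTower.algebraMap_apply P L0 L,
      IsScalarTower.algebraMap_apply P C L, ← IsScalarTower.algebraMap_apply k P C]
    exact IsScalarTower.algebraMap_apply k C L c
  obtain ⟨h1, h2⟩ := rank_kaehler_eq_add_imperfection k L0 L (Groth.Agent.S4551.result k n)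
  refine ⟨h1, h2.trans ?_⟩
  rw [Module.rank_baseChange, Cardinal.lift_id]

/-- With `[k : k^p]` finite the differentials of a complete local domain are finite, and the rank is exact. -/
theorem finite_kaehler_and_finrank (p : ℕ) [Fact p.Prime] [CharP k p] (hk : (frobenius k p).Finite)
    (C L : Type u) [CommRing C] [IsDomain C] [IsNoetherianRing C] [IsLocalRing C]
    [Algebra k C] [IsAdicComplete (maximalIdeal C) C] [Module.Finite k (ResidueField C)] {n : ℕ}
    (hn : ringKrullDim C = n) [Field L] [Algebra C L] [IsFractionRing C L] [Algebra k L] [IsScalarTower k C L] :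
    Module.Finite C (Ω[C⁄k]) ∧ Module.finrank L (Ω[L⁄k]) =
      n + Module.finrank L (LinearMap.ker (KaehlerDifferential.mapBaseChange ℤ k L)) := by
  obtain ⟨-, h2⟩ := rank_kaehler_fractionField k C L hn
  haveI : IsDomain (MvPowerSeries (Fin n) k) := NoZeroDivisors.to_isDomain _
  let P := MvPowerSeries (Fin n) k
  haveI : IsDomain P := ‹IsDomain (MvPowerSeries (Fin n) k)›
  let L0 := FractionRing P
  have hspan := span_D_powerSeries k p hk n
  haveI hfinP : Module.Finite P (Ω[P⁄k]) := ⟨hspan ▸ Submodule.fg_span (Set.finite_range _)⟩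
  constructor
  · obtain ⟨alg, tow, hfin, hinj⟩ := exists_presentation k C hn
    letI := alg
    haveI := tow
    haveI := hfin
    haveI : Module.Finite C (C ⊗[P] Ω[P⁄k]) := inferInstance
    haveI : Module.Finite C (Ω[C⁄P]) := inferInstance
    haveI : Module.Finite C (LinearMap.range (KaehlerDifferential.mapBaseChange k P C)) := Module.Finite.range _
    haveI : Module.Finite C (Ω[C⁄k] ⧸ LinearMap.range (KaehlerDifferential.mapBaseChange k P C)) :=
      Module.Finite.equiv ((Submodule.quotEquivOfEq _ _
        (KaehlerDifferential.exact_mapBaseChange_map k P C).linearMap_ker_eq.symm).trans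
        (LinearMap.quotKerEquivOfSurjective _ (KaehlerDifferential.map_surjective k P C))).symm
    exact Module.Finite.of_submodule_quotient (LinearMap.range (KaehlerDifferential.mapBaseChange k P C))
  · have hrank : Module.rank L0 (Ω[L0⁄k]) = (n : Cardinal.{u}) := by
      refine le_antisymm ?_ (le_rank_kaehler_fractionRing k n)
      have h := KaehlerDifferential.span_range_map_derivation_of_isLocalization (R := k) (S := P) (T := L0)
        (nonZeroDivisors P)
      have h' : Submodule.span L0 (Set.range fun i => KaehlerDifferential.map k k P L0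
          (KaehlerDifferential.D k P (MvPowerSeries.X i))) = ⊤ := by
        rw [eq_top_iff, ← h, Submodule.span_le]
        rintro _ ⟨a, rfl⟩
        have ha : KaehlerDifferential.D k P a ∈ Submodule.span P
            (Set.range fun i => KaehlerDifferential.D k P (MvPowerSeries.X i)) := by
          rw [show Submodule.span P _ = ⊤ from hspan]; trivial
        have h1 := Submodule.mem_map_of_mem (f := KaehlerDifferential.map k k P L0) ha
        rw [Submodule.map_span, ← Set.range_comp] at h1
        exact Submodule.span_le_restrictScalars P L0 _ h1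
      rw [← rank_top L0 (Ω[L0⁄k]), ← h']
      refine (rank_span_le _).trans ?_
      have h4 := Cardinal.mk_range_le_lift (f := fun i => KaehlerDifferential.map k k P L0
          (KaehlerDifferential.D k P (MvPowerSeries.X i)))
      simpa using h4
    show Cardinal.toNat (Module.rank L (Ω[L⁄k])) = _
    rw [h2, show Module.rank (FractionRing (MvPowerSeries (Fin n) k))
      (Ω[FractionRing (MvPowerSeries (Fin n) k)⁄k]) = (n : Cardinal.{u}) from hrank, ← Nat.cast_add,
      Cardinal.toNat_natCast]

end GrothLib.CKaehler2
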