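import Groth.Agent.Lib.CKaehler2.Gens
import Groth.Agent.Lib.CKaehler2.Imperf
import Groth.Agent.Lib.FibProp5.Regular
import Groth.Agent.Lib.AffDom.Formula
import Groth.Agent.S2471
import Groth.Agent.S2036

/-!
# Completed differentials at geometrically regular points
-/

universe u

open IsLocalRing
open scoped TensorProduct

set_option linter.style.haveILetI false
set_option linter.unusedSectionVars false

noncomputable section

namespace GrothLib.CKaehler2

variable (k : Type u) [Field k] (A : Type u) [CommRing A] [IsLocalRing A] [IsNoetherianRing A] [Algebra k A]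
  [IsAdicComplete (maximalIdeal A) A] [Module.Finite k (ResidueField A)]

/-- Quotients by primes keep the hypotheses. -/
theorem quotient_instances (q : Ideal A) [q.IsPrime] :
    ∃ (_ : IsLocalRing (A ⧸ q)), IsAdicComplete (maximalIdeal (A ⧸ q)) (A ⧸ q) ∧
      Module.Finite k (ResidueField (A ⧸ q)) := by
  haveI : IsLocalRing (A ⧸ q) := IsLocalRing.of_surjective' (Ideal.Quotient.mk q) Ideal.Quotient.mk_surjective
  haveI : IsLocalHom (algebraMap A (A ⧸ q)) := IsLocalHom.of_surjective _ Ideal.Quotient.mk_surjective
  refine ⟨inferInstance, ?_, ?_⟩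
  · haveI := GrothLib.AdicLim.isAdicComplete_of_finite (maximalIdeal A) (A ⧸ q)
    rw [show maximalIdeal (A ⧸ q) = (maximalIdeal A).map (algebraMap A (A ⧸ q)) from
      ((IsLocalRing.map_maximalIdeal_of_surjective (Ideal.Quotient.mk q) Ideal.Quotient.mk_surjective)).symm]
    exact (IsAdicComplete.map_algebraMap_iff (maximalIdeal A) (A ⧸ q)).mpr inferInstance
  · haveI : Module.Finite k (A ⧸ maximalIdeal A) := ‹Module.Finite k (ResidueField A)›
    refine Module.Finite.of_surjective
      (Ideal.Quotient.liftₐ (maximalIdeal A) ((IsScalarTower.toAlgHom k (A ⧸ q) (ResidueField (A ⧸ q))).comp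
        (Ideal.Quotient.mkₐ k q))
        fun a ha => (residue_eq_zero_iff _).mpr (map_nonunit (algebraMap A (A ⧸ q)) a ha)).toLinearMap (fun y => ?_)
    obtain ⟨y, rfl⟩ := residue_surjective y
    obtain ⟨a, rfl⟩ := Ideal.Quotient.mk_surjective y
    exact ⟨Ideal.Quotient.mk _ a, rfl⟩

variable {A} in
omit [IsLocalRing A] [IsNoetherianRing A] [Algebra k A] [IsAdicComplete (maximalIdeal A) A] [Module.Finite k (ResidueField A)] in
/-- A minimal prime below a domain point dies in the local ring. -/
theorem algebraMap_eq_zero_of_mem (P q : Ideal A) [P.IsPrime] [IsDomain (Localization.AtPrime P)]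
    (hq : q ∈ minimalPrimes A) (hqP : q ≤ P) {x : A} (hx : x ∈ q) : algebraMap A (Localization.AtPrime P) x = 0 := by
  let q0 := RingHom.ker (algebraMap A (Localization.AtPrime P))
  have hle : q0 ≤ q := fun y hy => by
    obtain ⟨s, hs⟩ := (IsLocalization.map_eq_zero_iff P.primeCompl _ y).1 hy
    exact ((hq.1.1).mem_or_mem (show (s : A) * y ∈ q by rw [hs]; exact q.zero_mem)).resolve_left fun h => s.2 (hqP h)
  exact hq.2 ⟨RingHom.ker_isPrime _, bot_le⟩ hle hx

omit [IsLocalRing A] [IsNoetherianRing A] [Algebra k A] [IsAdicComplete (maximalIdeal A) A] [Module.Finite k (ResidueField A)] in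
/-- The dimension of the point plus that of its closure is bounded by that of the component. -/
theorem dim_add_dim_le (P q : Ideal A) [P.IsPrime]
    (hkill : ∀ x ∈ q, algebraMap A (Localization.AtPrime P) x = 0) :
    ringKrullDim (Localization.AtPrime P) + ringKrullDim (A ⧸ P) ≤ ringKrullDim (A ⧸ q) := by
  have hqp : ∀ p' : Ideal A, p'.IsPrime → p' ≤ P → q ≤ p' := fun p' hp' hle x hx => by
    obtain ⟨s, hs⟩ := (IsLocalization.map_eq_zero_iff P.primeCompl _ x).1 (hkill x hx)
    exact (hp'.mem_or_mem (show (s : A) * x ∈ p' by rw [hs]; exact p'.zero_mem)).resolve_left fun h => s.2 (hle h)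
  let π := Ideal.Quotient.mk q
  have hker : RingHom.ker π = q := Ideal.mk_ker
  have hqP : q ≤ P := hqp P inferInstance le_rfl
  haveI : (P.map π).IsPrime := Ideal.map_isPrime_of_surjective Ideal.Quotient.mk_surjective (by rwa [hker])
  have hh : P.height ≤ (P.map π).height := by
    rw [show P = (⟨P, inferInstance⟩ : PrimeSpectrum A).asIdeal from rfl, PrimeSpectrum.height_eq_orderHeight,
      show (P.map π) = (⟨P.map π, inferInstance⟩ : PrimeSpectrum (A ⧸ q)).asIdeal from rfl,
      PrimeSpectrum.height_eq_orderHeight]
    refine Order.height_le fun s hs => ?_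
    have hin : ∀ i, RingHom.ker π ≤ (s i).asIdeal := fun i => by
      rw [hker]
      have h1 : s i ≤ s.last := s.monotone (Fin.le_last i)
      rw [hs] at h1
      exact hqp _ (s i).2 h1
    let g : Fin (s.length + 1) → PrimeSpectrum (A ⧸ q) := fun i =>
      ⟨(s i).asIdeal.map π, Ideal.map_isPrime_of_surjective Ideal.Quotient.mk_surjective (hin i)⟩
    have hcm : ∀ i, ((s i).asIdeal.map π).comap π = (s i).asIdeal := fun i => by
      rw [Ideal.comap_map_of_surjective _ Ideal.Quotient.mk_surjective, ← RingHom.ker_eq_comap_bot, sup_eq_left]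
      exact hin i
    have hg : StrictMono g := fun i j hij => by
      refine lt_of_le_of_ne (Ideal.map_mono (s.monotone hij.le)) fun h => (s.strictMono hij).ne ?_
      refine PrimeSpectrum.ext ?_
      rw [← hcm i, ← hcm j]
      exact congrArg (fun z : PrimeSpectrum (A ⧸ q) => z.asIdeal.comap π) h
    have hlast : g (Fin.last _) = ⟨P.map π, inferInstance⟩ := by
      refine PrimeSpectrum.ext ?_
      show (s.last).asIdeal.map π = P.map π
      rw [hs]
    exact (Order.length_le_height (p := LTSeries.mk s.length g hg) (le_of_eq hlast)).trans le_rfl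
  have hd : ringKrullDim (A ⧸ P) = ringKrullDim ((A ⧸ q) ⧸ P.map π) :=
    (ringKrullDim_eq_of_ringEquiv (DoubleQuot.quotQuotEquivQuotOfLE hqP)).symm
  rw [IsLocalization.AtPrime.ringKrullDim_eq_height P (Localization.AtPrime P), hd]
  exact (add_le_add (WithBot.coe_le_coe.2 hh) le_rfl).trans (GrothLib.AffDom.height_add_ringKrullDim_quotient_le _)

/-- A bound on the fibre at a domain point forces freeness. -/
theorem free_of_fibre_le (P : Ideal A) [P.IsPrime] [IsDomain (Localization.AtPrime P)] (q : Ideal A) [q.IsPrime]
    (hq : q ∈ minimalPrimes A) (hqP : q ≤ P) {n : ℕ} (hn : ringKrullDim (A ⧸ q) = n)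
    (hfib : Module.finrank P.ResidueField (P.ResidueField ⊗[A] Om k A) ≤ n) :
    Module.Free (Localization.AtPrime P) (LocalizedModule P.primeCompl (Om k A)) ∧
      Module.finrank (Localization.AtPrime P) (LocalizedModule P.primeCompl (Om k A)) = n := by
  classical
  haveI := finite_kaehler_residueField k A
  haveI := finite_om' k A
  let R := Localization.AtPrime P
  let M := LocalizedModule P.primeCompl (Om k A)
  let mk := LocalizedModule.mkLinearMap P.primeCompl (Om k A)
  -- generators
  let V := P.ResidueField ⊗[A] Om k A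
  have hm : Module.finrank P.ResidueField V = n := le_antisymm hfib (dim_le_finrank_fibre k A P q hqP hn)
  obtain ⟨f, hf⟩ : ∃ f : Fin n → Om k A, ∀ z, ∃ t ∉ P, t • z ∈ Submodule.span A (Set.range f) := by
    haveI : Module.Finite R M := Module.Finite.of_isLocalizedModule P.primeCompl mk
    -- generators of the fibre from the image of `Ω̂`
    obtain ⟨f, hfsub, hspan, hli⟩ := exists_linearIndependent P.ResidueField
      (Set.range fun z : Om k A => (1 : P.ResidueField) ⊗ₜ[A] z)
    have htop : Submodule.span P.ResidueField (Set.range fun z : Om k A => (1 : P.ResidueField) ⊗ₜ[A] z) = ⊤ := by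
      rw [eq_top_iff]
      rintro z -
      induction z with
      | zero => exact Submodule.zero_mem _
      | add a b ha hb => exact Submodule.add_mem _ ha hb
      | tmul c z =>
        rw [show c ⊗ₜ[A] z = c • ((1 : P.ResidueField) ⊗ₜ[A] z) by rw [TensorProduct.smul_tmul', smul_eq_mul, mul_one]]
        exact Submodule.smul_mem _ _ (Submodule.subset_span ⟨z, rfl⟩)
    rw [htop] at hspan
    let b : Module.Basis f P.ResidueField V := Module.Basis.mk hli (by simp [hspan])
    haveI : Finite f := Module.Finite.finite_basis b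
    haveI := Fintype.ofFinite f
    have hcard : Fintype.card f = n := (Module.finrank_eq_card_basis b).symm.trans hm
    choose w hw using fun i : f => hfsub i.2
    let e : Fin n ≃ f := (Fintype.equivFinOfCardEq hcard).symm
    refine ⟨w ∘ e, gens_of_fibre P _ (eq_top_iff.2 (hspan ▸ Submodule.span_le.2 fun v hv => ?_))⟩
    exact Submodule.subset_span ⟨e.symm ⟨v, hv⟩, by simpa using hw ⟨v, hv⟩⟩
  have hspanM : Submodule.span R (Set.range fun i => mk (f i)) = ⊤ := (span_localized_iff P f).2 hf
  have hli : LinearIndependent R (fun i => mk (f i)) := by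
    rw [Fintype.linearIndependent_iff]
    intro c hc j
    by_contra hj
    obtain ⟨s, hs⟩ := IsLocalization.exist_integer_multiples_of_finite P.primeCompl c
    choose a ha using hs
    have ha' : ∀ i, algebraMap A R (a i) = (s : A) • c i := ha
    have h1 : mk (∑ i, a i • f i) = 0 := by
      rw [map_sum]
      simp only [map_smul, ← algebraMap_smul R (a _), ha', smul_assoc]
      rw [← Finset.smul_sum]
      show (s : A) • ∑ i, c i • mk (f i) = 0
      rw [hc, smul_zero]
    obtain ⟨t, ht⟩ := (IsLocalizedModule.eq_zero_iff P.primeCompl mk).1 h1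
    have haq : a j ∉ q := fun h => hj (by
      have h2 := ha' j
      rw [algebraMap_eq_zero_of_mem P q hq hqP h, Algebra.smul_def] at h2
      exact (mul_eq_zero.1 h2.symm).resolve_left (IsLocalization.map_units R s).ne_zero)
    obtain ⟨m, rfl⟩ : ∃ m, n = m + 1 := ⟨n - 1, by have := j.2; omega⟩
    have htj : (t : A) * a j ∉ q := fun h => (hq.1.1.mem_or_mem h).elim (fun h' => t.2 (hqP h')) haq
    have hfj : ((t : A) * a j) • f j ∈ Submodule.span A (Set.range (f ∘ j.succAbove)) := by
      have h2 : (t : A) • ∑ i, a i • f i = 0 := ht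
      rw [Finset.smul_sum, Fin.sum_univ_succAbove _ j] at h2
      rw [mul_smul, eq_neg_of_add_eq_zero_left h2]
      refine neg_mem (Submodule.sum_mem _ fun i _ => Submodule.smul_mem _ _ (Submodule.smul_mem _ _ ?_))
      exact Submodule.subset_span ⟨i, rfl⟩
    have := dim_le_of_generators k A q q le_rfl hn (f ∘ j.succAbove) fun z => by
      obtain ⟨t', ht', hmem⟩ := hf z
      refine ⟨((t : A) * a j) * t', fun h => (hq.1.1.mem_or_mem h).elim htj fun h' => ht' (hqP h'), ?_⟩
      rw [mul_smul]
      generalize (t : A) * a j = u at hfj ⊢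
      have hle : Submodule.span A (Set.range f) ≤
          (Submodule.span A (Set.range (f ∘ j.succAbove))).comap (LinearMap.lsmul A (Om k A) u) := by
        rw [Submodule.span_le]
        rintro _ ⟨i, rfl⟩
        rcases eq_or_ne i j with rfl | hne
        · exact hfj
        · obtain ⟨i', rfl⟩ := Fin.exists_succAbove_eq hne
          exact Submodule.smul_mem _ u (Submodule.subset_span (Set.mem_range_self (f := f ∘ j.succAbove) i'))
      exact hle hmem
    omega
  let b := Module.Basis.mk hli hspanM.ge
  exact ⟨Module.Free.of_basis b, (Module.finrank_eq_card_basis b).trans (Fintype.card_fin n)⟩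

end GrothLib.CKaehler2
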