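import Groth.Agent.Lib.CKaehler2.GeomFree

/-!
# The fibre of the differentials at a geometrically regular point, positive characteristic
-/

universe u

open IsLocalRing
open scoped TensorProduct

set_option linter.style.haveILetI false
set_option linter.unusedSectionVars false

noncomputable section

namespace GrothLib.CKaehler2

/-- Dimension counting in an exact sequence. -/
theorem finrank_of_exact {K V₁ V₂ V₃ : Type*} [Field K] [AddCommGroup V₁] [AddCommGroup V₂] [AddCommGroup V₃]
    [Module K V₁] [Module K V₂] [Module K V₃] [FiniteDimensional K V₁] [FiniteDimensional K V₃]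
    (f : V₁ →ₗ[K] V₂) (g : V₂ →ₗ[K] V₃) (h : Function.Exact f g) (hg : Function.Surjective g) :
    FiniteDimensional K V₂ ∧
      Module.finrank K V₂ + Module.finrank K (LinearMap.ker f) = Module.finrank K V₁ + Module.finrank K V₃ := by
  haveI : FiniteDimensional K (LinearMap.range f) := Module.Finite.range f
  haveI : FiniteDimensional K (V₂ ⧸ LinearMap.range f) :=
    Module.Finite.equiv ((Submodule.quotEquivOfEq _ _ h.linearMap_ker_eq.symm).trans
      (g.quotKerEquivOfSurjective hg)).symm
  haveI : FiniteDimensional K V₂ := Module.Finite.of_submodule_quotient (LinearMap.range f)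
  refine ⟨inferInstance, ?_⟩
  have h1 := LinearMap.finrank_range_add_finrank_ker f
  have h2 := LinearMap.finrank_range_add_finrank_ker g
  rw [LinearMap.range_eq_top.2 hg, finrank_top, h.linearMap_ker_eq] at h2
  omega

variable (k : Type u) [Field k]

/-- With `[k : k^p]` finite, the absolute differentials of `k` are finite. -/
theorem finite_kaehler_int (p : ℕ) [Fact p.Prime] [CharP k p] (hk : (frobenius k p).Finite) :
    Module.Finite k (Ω[k⁄ℤ]) := by
  let F : Subfield k := (frobenius k p).fieldRange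
  haveI : FiniteDimensional F k :=
    RingHom.Finite.of_comp_finite (f := (frobenius k p).rangeRestrictField) (g := F.subtype) hk
  classical
  let b := Module.finBasis F k
  refine ⟨⟨(Finset.univ.image fun i => KaehlerDifferential.D ℤ k (b i)), ?_⟩⟩
  rw [eq_top_iff, ← KaehlerDifferential.span_range_derivation, Submodule.span_le]
  rintro _ ⟨c, rfl⟩
  rw [← b.sum_repr c, map_sum]
  refine Submodule.sum_mem _ fun i _ => ?_
  obtain ⟨d, hd⟩ := RingHom.mem_fieldRange.1 (b.repr c i).2
  rw [Subfield.smul_def, smul_eq_mul, ← hd, frobenius_def, Derivation.leibniz, Derivation.leibniz_pow,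
    ← Nat.cast_smul_eq_nsmul k, CharP.cast_eq_zero, zero_smul, smul_zero, add_zero]
  exact Submodule.smul_mem _ _ (Submodule.subset_span (by simp))

/-- The counting behind the fibre bound. -/
theorem fibre_bound (R κ : Type u) [CommRing R] [Field κ] [Algebra k R] [Algebra k κ] [Algebra R κ]
    [IsScalarTower k R κ] (hs : Function.Surjective (algebraMap R κ)) {h : ℕ} (y : Fin h → R)
    (hy : Ideal.span (Set.range y) = RingHom.ker (algebraMap R κ)) [Module.Finite k (Ω[k⁄ℤ])]
    [FiniteDimensional κ (κ ⊗[R] Ω[R⁄k])] [FiniteDimensional κ (Ω[κ⁄k])]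
    (hinj : Function.Injective ((KaehlerDifferential.mapBaseChange ℤ k R).lTensor κ)) :
    Module.finrank κ (κ ⊗[R] Ω[R⁄k]) + Module.finrank κ (LinearMap.ker (KaehlerDifferential.mapBaseChange ℤ k κ)) ≤
      h + Module.finrank κ (Ω[κ⁄k]) := by
  -- the sequence for `k → κ`
  obtain ⟨hfin1, hrk1⟩ := finrank_of_exact (KaehlerDifferential.mapBaseChange ℤ k κ) (KaehlerDifferential.map ℤ k κ κ)
    (KaehlerDifferential.exact_mapBaseChange_map ℤ k κ) (KaehlerDifferential.map_surjective ℤ k κ)
  haveI := hfin1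
  -- the sequence for `k → R`, on the fibre
  haveI : FiniteDimensional κ (κ ⊗[R] (R ⊗[k] Ω[k⁄ℤ])) := inferInstance
  haveI : FiniteDimensional κ (κ ⊗[R] Ω[R⁄k]) := inferInstance
  let α : κ ⊗[R] (R ⊗[k] Ω[k⁄ℤ]) →ₗ[κ] κ ⊗[R] Ω[R⁄ℤ] := (KaehlerDifferential.mapBaseChange ℤ k R).baseChange κ
  let β : κ ⊗[R] Ω[R⁄ℤ] →ₗ[κ] κ ⊗[R] Ω[R⁄k] := (KaehlerDifferential.map ℤ k R R).baseChange κ
  have hexβ : Function.Exact α β :=
    lTensor_exact κ (KaehlerDifferential.exact_mapBaseChange_map ℤ k R) (KaehlerDifferential.map_surjective ℤ k R)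
  have hβ : Function.Surjective β := LinearMap.lTensor_surjective κ (KaehlerDifferential.map_surjective ℤ k R)
  have hα : LinearMap.ker α = ⊥ := LinearMap.ker_eq_bot.2 hinj
  obtain ⟨hfin2, hrk2⟩ := finrank_of_exact α β hexβ hβ
  haveI := hfin2
  rw [hα, finrank_bot, add_zero,
    (TensorProduct.AlgebraTensorModule.cancelBaseChange k R κ κ (Ω[k⁄ℤ])).finrank_eq] at hrk2
  -- the conormal sequence
  let γ : κ ⊗[R] Ω[R⁄ℤ] →ₗ[κ] Ω[κ⁄ℤ] := KaehlerDifferential.mapBaseChange ℤ R κ
  have hker : LinearMap.ker γ ≤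
      Submodule.span κ (Set.range fun i => (1 : κ) ⊗ₜ[R] KaehlerDifferential.D ℤ R (y i)) := by
    intro z hz
    obtain ⟨w, rfl⟩ := (KaehlerDifferential.exact_kerCotangentToTensor_mapBaseChange ℤ R κ hs z).1 hz
    obtain ⟨⟨z', hz0⟩, rfl⟩ := Ideal.toCotangent_surjective _ w
    rw [KaehlerDifferential.kerCotangentToTensor_toCotangent]
    have hz' : z' ∈ Ideal.span (Set.range y) := hy ▸ hz0
    obtain ⟨c, hc⟩ := (Ideal.mem_span_range_iff_exists_fun).1 hz'
    show (1 : κ) ⊗ₜ[R] KaehlerDifferential.D ℤ R z' ∈ _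
    rw [← hc, map_sum, TensorProduct.tmul_sum]
    refine Submodule.sum_mem _ fun i _ => ?_
    have h0 : algebraMap R κ (y i) = 0 :=
      RingHom.mem_ker.1 (hy ▸ Ideal.subset_span ⟨i, rfl⟩)
    rw [Derivation.leibniz, TensorProduct.tmul_add, ← TensorProduct.smul_tmul, ← TensorProduct.smul_tmul,
      ← algebraMap_smul κ (c i), ← algebraMap_smul κ (y i), h0, zero_smul,
      TensorProduct.zero_tmul, add_zero, ← TensorProduct.smul_tmul']
    exact Submodule.smul_mem _ _ (Submodule.subset_span ⟨i, rfl⟩)
  have hrk3 := LinearMap.finrank_range_add_finrank_ker γ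
  have hle1 := Submodule.finrank_le (LinearMap.range γ)
  have hle2 : Module.finrank κ (LinearMap.ker γ) ≤ h :=
    (Submodule.finrank_mono hker).trans ((finrank_range_le_card _).trans (Fintype.card_fin _).le)
  omega

variable (A : Type u) [CommRing A] [IsLocalRing A] [IsNoetherianRing A] [Algebra k A]
  [IsAdicComplete (maximalIdeal A) A] [Module.Finite k (ResidueField A)]

/-- With `[k : k^p]` finite, the differentials of a complete local algebra are finite. -/
theorem finite_kaehler (p : ℕ) [Fact p.Prime] [CharP k p] (hk : (frobenius k p).Finite) :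
    Module.Finite A (Ω[A⁄k]) := by
  obtain ⟨m, x, hx⟩ := Submodule.fg_iff_exists_fin_generating_family.1 (IsNoetherian.noetherian (maximalIdeal A))
  change Ideal.span (Set.range x) = maximalIdeal A at hx
  obtain ⟨alg, tow, -, -, hfin⟩ := exists_finite_of_radical k A x
    (fun i => hx ▸ Ideal.subset_span ⟨i, rfl⟩) (hx.ge.trans Ideal.le_radical)
  letI := alg
  haveI := tow
  haveI := hfin
  let P := MvPowerSeries (Fin m) k
  haveI : Module.Finite P (Ω[P⁄k]) := ⟨span_D_powerSeries k p hk m ▸ Submodule.fg_span (Set.finite_range _)⟩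
  haveI : Module.Finite A (A ⊗[P] Ω[P⁄k]) := inferInstance
  haveI : Module.Finite A (Ω[A⁄P]) := inferInstance
  haveI : Module.Finite A (LinearMap.range (KaehlerDifferential.mapBaseChange k P A)) := Module.Finite.range _
  haveI : Module.Finite A (Ω[A⁄k] ⧸ LinearMap.range (KaehlerDifferential.mapBaseChange k P A)) :=
    Module.Finite.equiv ((Submodule.quotEquivOfEq _ _
      (KaehlerDifferential.exact_mapBaseChange_map k P A).linearMap_ker_eq.symm).trans
      (LinearMap.quotKerEquivOfSurjective _ (KaehlerDifferential.map_surjective k P A))).symm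
  exact Module.Finite.of_submodule_quotient (LinearMap.range (KaehlerDifferential.mapBaseChange k P A))

omit [IsLocalRing A] [IsAdicComplete (maximalIdeal A) A] [Module.Finite k (ResidueField A)] [Algebra k A] in
/-- A regular local ring at a prime has a system of parameters from `A`. -/
theorem exists_regular_params (P : Ideal A) [P.IsPrime] [IsRegularLocalRing (Localization.AtPrime P)] :
    ∃ (h : ℕ) (x : Fin h → A), ringKrullDim (Localization.AtPrime P) = h ∧ (∀ i, x i ∈ P) ∧
      Ideal.span (Set.range fun i => algebraMap A (Localization.AtPrime P) (x i)) = maximalIdeal _ := by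
  let R := Localization.AtPrime P
  let m := maximalIdeal R
  have hfg : m.FG := IsNoetherian.noetherian _
  obtain ⟨s, hcard, hspan⟩ := (Submodule.FG.exists_span_finset_card_eq_spanFinrank hfg : _)
  let y : Fin s.card → R := fun i => (s.equivFin.symm i : s)
  have hy : Set.range y = (s : Set R) := Set.ext fun z =>
    ⟨fun ⟨i, hi⟩ => hi ▸ (s.equivFin.symm i).2, fun hz => ⟨s.equivFin ⟨z, hz⟩, by simp [y]⟩⟩
  choose w hw using fun i => IsLocalization.surj P.primeCompl (y i)
  refine ⟨s.card, fun i => (w i).1, ?_, fun i => ?_, ?_⟩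
  · rw [← IsRegularLocalRing.spanFinrank_maximalIdeal, hcard]
  · refine (IsLocalization.AtPrime.to_map_mem_maximal_iff R P (w i).1).1 ?_
    rw [← hw i]
    exact Ideal.mul_mem_right _ _ (hspan.le (Submodule.subset_span (hy ▸ ⟨i, rfl⟩ : y i ∈ (s : Set R))))
  · refine le_antisymm (Ideal.span_le.2 ?_) ?_
    · rintro _ ⟨i, rfl⟩
      show algebraMap A R (w i).1 ∈ maximalIdeal R
      rw [← hw i]
      exact Ideal.mul_mem_right _ _ (hspan.le (Submodule.subset_span (hy ▸ ⟨i, rfl⟩ : y i ∈ (s : Set R))))
    · show m ≤ _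
      rw [← hspan, ← hy]
      show Ideal.span (Set.range y) ≤ _
      rw [Ideal.span_le]
      rintro _ ⟨i, rfl⟩
      refine (Ideal.unit_mul_mem_iff_mem _ (IsLocalization.map_units R (w i).2)).1 ?_
      rw [mul_comm, hw i]
      exact Ideal.subset_span ⟨i, rfl⟩

/-- The fibre of `Ω_{A/k}` at a geometrically regular point is at most `dim A_P + dim A/P`. -/
theorem fibre_le_charP (p : ℕ) [Fact p.Prime] [CharP k p] (hk : (frobenius k p).Finite) (P : Ideal A) [P.IsPrime]
    (hP : CAlg.IsGeometricallyRegular k (Localization.AtPrime P)) {h d : ℕ}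
    (hh : ringKrullDim (Localization.AtPrime P) = h) (hd : ringKrullDim (A ⧸ P) = d) :
    Module.finrank P.ResidueField (P.ResidueField ⊗[A] Om k A) ≤ h + d := by
  let R := Localization.AtPrime P
  let κ := P.ResidueField
  haveI := finite_kaehler k A p hk
  haveI := finite_kaehler_int k p hk
  haveI := finite_kaehler_residueField k A
  obtain ⟨hreg, hinj⟩ := Groth.Agent.S2471.result.1 ((Groth.Agent.S2036.result p).1 hP)
  haveI := hreg
  obtain ⟨h', x, hdim, hxP, hxspan⟩ := exists_regular_params A P
  obtain rfl : h' = h := by exact_mod_cast hdim.symm.trans hh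
  -- reduce to the differentials of the local ring
  haveI : IsAdicComplete (maximalIdeal A) (Ω[A⁄k]) := GrothLib.AdicLim.isAdicComplete_of_finite (maximalIdeal A) _
  haveI : Algebra.FormallyEtale A R := Algebra.FormallyEtale.of_isLocalization P.primeCompl
  let eA : κ ⊗[A] Om k A ≃ₗ[κ] κ ⊗[R] (Ω[R⁄k]) :=
    ((AdicCompletion.ofLinearEquiv (maximalIdeal A) (Ω[A⁄k])).symm.baseChange A κ _ _).trans
      ((TensorProduct.AlgebraTensorModule.cancelBaseChange A R κ κ (Ω[A⁄k])).symm.trans
        ((KaehlerDifferential.tensorKaehlerEquivOfFormallyEtale k A R).baseChange R κ _ _))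
  rw [eA.finrank_eq]
  haveI : Module.Finite R (Ω[R⁄k]) :=
    Module.Finite.of_isLocalizedModule P.primeCompl (KaehlerDifferential.map k k A R)
  -- the residue field
  haveI hC := quotient_instances k A P
  obtain ⟨hCloc, hCcomp, hCres⟩ := hC
  haveI := hCloc
  haveI := hCcomp
  haveI := hCres
  obtain ⟨-, hrankC⟩ := finite_kaehler_and_finrank k p hk (A ⧸ P) κ hd
  haveI : Module.Finite κ (Ω[κ⁄k]) := by
    haveI : Module.Finite (A ⧸ P) (Ω[(A ⧸ P)⁄k]) := (finite_kaehler_and_finrank k p hk (A ⧸ P) κ hd).1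
    exact Module.Finite.of_isLocalizedModule (nonZeroDivisors (A ⧸ P)) (KaehlerDifferential.map k k (A ⧸ P) κ)
  have hres : RingHom.ker (algebraMap R κ) = maximalIdeal R := IsLocalRing.ker_residue
  have hb := fibre_bound k R κ residue_surjective (fun i => algebraMap A R (x i)) (hxspan.trans hres.symm) hinj
  omega

end GrothLib.CKaehler2
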