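import Groth.Agent.Lib.CKaehler2.GeomFree2

/-!
# The fibre of the completed differentials, characteristic zero
-/

universe u

open IsLocalRing
open scoped TensorProduct

set_option linter.style.haveILetI false
set_option linter.unusedSectionVars false

noncomputable section

namespace GrothLib.CKaehler2

variable (k : Type u) [Field k] (A : Type u) [CommRing A] [IsLocalRing A] [IsNoetherianRing A] [Algebra k A]
  [IsAdicComplete (maximalIdeal A) A] [Module.Finite k (ResidueField A)]

/-- A presentation of `A/P` by power series lifts to `A`. -/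
theorem exists_lift_presentation (P : Ideal A) [P.IsPrime] {d : ℕ} (hd : ringKrullDim (A ⧸ P) = d) :
    ∃ (_ : Algebra (MvPowerSeries (Fin d) k) A) (_ : IsScalarTower k (MvPowerSeries (Fin d) k) A),
      (∀ i, algebraMap (MvPowerSeries (Fin d) k) A (MvPowerSeries.X i) ∈ maximalIdeal A) ∧
      Module.Finite (MvPowerSeries (Fin d) k) (A ⧸ P) ∧
      Function.Injective (algebraMap (MvPowerSeries (Fin d) k) (A ⧸ P)) := by
  obtain ⟨hCloc, hCcomp, hCres⟩ := quotient_instances k A P
  haveI := hCloc
  haveI := hCcomp
  haveI := hCres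
  let Pd := MvPowerSeries (Fin d) k
  obtain ⟨algC, towC, hfin, hinj⟩ := exists_presentation k (A ⧸ P) hd
  letI := algC
  haveI := towC
  haveI hloc : IsLocalHom (algebraMap Pd (A ⧸ P)) :=
    RingHom.IsIntegral.isLocalHom (haveI := hfin; (Algebra.IsIntegral.of_finite Pd (A ⧸ P)).isIntegral) hinj
  choose y hy using fun i => Ideal.Quotient.mk_surjective (I := P) (algebraMap Pd (A ⧸ P) (MvPowerSeries.X i))
  have hym : ∀ i, y i ∈ maximalIdeal A := fun i => by
    by_contra hu
    rw [IsLocalRing.notMem_maximalIdeal] at hu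
    have h1 : IsUnit (algebraMap Pd (A ⧸ P) (MvPowerSeries.X i)) := hy i ▸ hu.map (Ideal.Quotient.mk P)
    exact (map_nonunit (algebraMap Pd (A ⧸ P)) _ (GrothLib.RegLoc.PS.X_mem k i) : _) h1
  obtain ⟨ψ, hψ⟩ := GrothLib.RegLoc.PS.exists_algHom (A := k) (maximalIdeal A) y hym
  let ψ' : Pd →ₐ[k] A ⧸ P := (Ideal.Quotient.mkₐ k P).comp ψ
  have hpoly : ∀ g : MvPolynomial (Fin d) k, algebraMap Pd (A ⧸ P) g = ψ' g := by
    intro g
    induction g using MvPolynomial.induction_on with
    | C c =>
      rw [MvPolynomial.coe_C, show MvPowerSeries.C c = algebraMap k Pd c by simp [Pd, MvPowerSeries.algebraMap_apply],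
        AlgHom.commutes, ← IsScalarTower.algebraMap_apply]
    | add a b ha hb => rw [MvPolynomial.coe_add, map_add, map_add, ha, hb]
    | mul_X a i ha =>
      rw [MvPolynomial.coe_mul, MvPolynomial.coe_X, map_mul, map_mul, ha]
      congr 1
      rw [← hy i, ← hψ i]
      rfl
  have hcomp : ∀ f : Pd, algebraMap Pd (A ⧸ P) f = ψ' f := by
    intro f
    refine IsHausdorff.eq_iff_smodEq (I := maximalIdeal (A ⧸ P)).2 fun n => ?_
    rw [SModEq.sub_mem, smul_eq_mul, Ideal.mul_top]
    have hf := GrothLib.AdicFS.sub_truncTotal_mem (A := k) f n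
    have key : ∀ φ : Pd →+* A ⧸ P, (∀ i, φ (MvPowerSeries.X i) ∈ maximalIdeal (A ⧸ P)) →
        φ f - φ (algebraMap (MvPolynomial (Fin d) k) Pd (MvPowerSeries.truncTotal n f)) ∈ maximalIdeal (A ⧸ P) ^ n := by
      intro φ hφ
      rw [← map_sub]
      have h1 := Ideal.mem_map_of_mem φ hf
      rw [Ideal.map_pow] at h1
      refine Ideal.pow_right_mono ?_ n h1
      rw [GrothLib.AdicFS.varsIdeal, MvPolynomial.idealOfVars, Ideal.map_span, Ideal.map_span, Ideal.span_le]
      rintro _ ⟨_, ⟨_, ⟨i, rfl⟩, rfl⟩, rfl⟩
      rw [MvPowerSeries.algebraMap_apply']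
      simpa using hφ i
    have h1 := key (algebraMap Pd (A ⧸ P)) fun i => map_nonunit _ _ (GrothLib.RegLoc.PS.X_mem k i)
    have h2 := key ψ'.toRingHom fun i => by
      show Ideal.Quotient.mk P (ψ (MvPowerSeries.X i)) ∈ _
      rw [hψ, hy]
      exact map_nonunit _ _ (GrothLib.RegLoc.PS.X_mem k i)
    rw [MvPowerSeries.algebraMap_apply'] at h1 h2
    simp only [RingHom.id_apply, MvPowerSeries.map_id, AlgHom.toRingHom_eq_coe, RingHom.coe_coe, Algebra.algebraMap_self,
      hpoly] at h1 h2
    have h3 := sub_mem h1 h2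
    rwa [sub_sub_sub_cancel_right] at h3
  have heq0 := hcomp
  let algA : Algebra Pd A := ψ.toRingHom.toAlgebra
  refine ⟨algA, IsScalarTower.of_algebraMap_eq fun c => (ψ.commutes c).symm,
    fun i => by show ψ _ ∈ _; rw [hψ]; exact hym i, ?_⟩
  have heq : algebraMap Pd (A ⧸ P) = (Ideal.Quotient.mk P).comp ψ.toRingHom := RingHom.ext hcomp
  constructor
  · have h1 : (algebraMap Pd (A ⧸ P)).Finite := RingHom.finite_algebraMap.2 hfin
    rw [heq] at h1
    exact ⟨h1.fg_top⟩
  · rw [heq] at hinj
    exact hinj

/-- In characteristic zero the fibre at a regular point is at most `dim A_P + dim A/P`. -/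
theorem fibre_le_charZero [CharZero k] (P : Ideal A) [P.IsPrime] [IsRegularLocalRing (Localization.AtPrime P)]
    {h d : ℕ} (hh : ringKrullDim (Localization.AtPrime P) = h) (hd : ringKrullDim (A ⧸ P) = d) :
    Module.finrank P.ResidueField (P.ResidueField ⊗[A] Om k A) ≤ h + d := by
  classical
  haveI := finite_kaehler_residueField k A
  haveI := finite_om' k A
  let κ := P.ResidueField
  let V := κ ⊗[A] Om k A
  let D : Derivation k A V := (TensorProduct.mk A κ (Om k A) 1).compDer (dhat k A)
  obtain ⟨h', x, hdim, hxP, hxspan⟩ := exists_regular_params A P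
  obtain rfl : h' = h := by exact_mod_cast hdim.symm.trans hh
  obtain ⟨hCloc, hCcomp, hCres⟩ := quotient_instances k A P
  haveI := hCloc
  haveI := hCcomp
  haveI := hCres
  obtain ⟨alg, tow, hym, hfin, hinj⟩ := exists_lift_presentation k A P hd
  letI := alg
  haveI := tow
  haveI := hfin
  let Pd := MvPowerSeries (Fin d) k
  haveI : IsDomain (MvPowerSeries (Fin d) k) := NoZeroDivisors.to_isDomain _
  haveI : IsDomain Pd := ‹IsDomain (MvPowerSeries (Fin d) k)›
  let y : Fin d → A := fun i => algebraMap Pd A (MvPowerSeries.X i)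
  let W : Submodule κ V := Submodule.span κ (Set.range (Sum.elim (fun i => D (x i)) (fun i => D (y i))))
  have hWy : ∀ f : Pd, D (algebraMap Pd A f) ∈ W := fun f => by
    have h1 : dhat k A (algebraMap Pd A f) ∈ relSpan k A Pd := Submodule.subset_span ⟨f, rfl⟩
    rw [relSpan_powerSeries k A hym] at h1
    have h2 := Submodule.mem_map_of_mem (f := TensorProduct.mk A κ (Om k A) 1) h1
    rw [Submodule.map_span, ← Set.range_comp] at h2
    refine Submodule.span_le_restrictScalars A κ _ ((Submodule.span_mono ?_) h2)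
    rintro _ ⟨i, rfl⟩
    refine ⟨Sum.inr i, ?_⟩
    rfl
  have hsmul : ∀ (a : A) (v : V), a • v = algebraMap A κ a • v := fun a v => (algebraMap_smul κ a v).symm
  have hP0 : ∀ a ∈ P, algebraMap A κ a = 0 := fun a ha => (Ideal.algebraMap_residueField_eq_zero).2 ha
  have hWP : ∀ a ∈ P, D a ∈ W := fun a ha => by
    have h1 : algebraMap A (Localization.AtPrime P) a ∈
        (Ideal.span (Set.range x)).map (algebraMap A (Localization.AtPrime P)) := by
      rw [Ideal.map_span, ← Set.range_comp]
      exact hxspan.ge ((IsLocalization.AtPrime.to_map_mem_maximal_iff _ P a).2 ha)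
    obtain ⟨t, ht, hta⟩ := (IsLocalization.algebraMap_mem_map_algebraMap_iff P.primeCompl _ _ _).1 h1
    obtain ⟨c, hc⟩ := (Ideal.mem_span_range_iff_exists_fun).1 hta
    have h2 : D (t * a) ∈ W := by
      rw [← hc, map_sum]
      refine W.sum_mem fun i _ => ?_
      rw [Derivation.leibniz, hsmul, hsmul (x i), hP0 _ (hxP i), zero_smul, add_zero]
      exact W.smul_mem _ (Submodule.subset_span ⟨Sum.inl i, rfl⟩)
    rw [Derivation.leibniz, hsmul, hsmul a, hP0 a ha, zero_smul, add_zero] at h2
    exact (Submodule.smul_mem_iff W (fun h0 => ht ((Ideal.algebraMap_residueField_eq_zero).1 h0))).1 h2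
  -- separability
  let L := FractionRing (A ⧸ P)
  haveI : FaithfulSMul Pd (A ⧸ P) := (faithfulSMul_iff_algebraMap_injective Pd (A ⧸ P)).mpr hinj
  haveI : FaithfulSMul Pd L := (faithfulSMul_iff_algebraMap_injective Pd L).mpr (by
    rw [IsScalarTower.algebraMap_eq Pd (A ⧸ P) L]
    exact (IsFractionRing.injective (A ⧸ P) L).comp hinj)
  letI : Algebra (FractionRing Pd) L := FractionRing.liftAlgebra Pd L
  haveI : IsScalarTower Pd (FractionRing Pd) L := FractionRing.isScalarTower_liftAlgebra Pd L
  haveI : CharZero Pd := charZero_of_injective_algebraMap (algebraMap k Pd).injective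
  haveI : CharZero (FractionRing Pd) :=
    charZero_of_injective_algebraMap (IsFractionRing.injective Pd (FractionRing Pd))
  haveI : IsIntegrallyClosed Pd := GrothLib.RegLoc.isIntegrallyClosed_of_isRegularLocalRing Pd
  haveI : Module.IsTorsionFree Pd (A ⧸ P) := FaithfulSMul.to_isTorsionFree Pd (A ⧸ P)
  have hWall : ∀ a : A, D a ∈ W := fun a => by
    have hint : IsIntegral Pd (Ideal.Quotient.mk P a) := (Algebra.IsIntegral.of_finite Pd (A ⧸ P)).isIntegral _
    let Q := minpoly Pd (Ideal.Quotient.mk P a)
    have hQ0 : Polynomial.aeval (Ideal.Quotient.mk P a) Q = 0 := minpoly.aeval _ _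
    have hmap := minpoly.isIntegrallyClosed_eq_field_fractions (FractionRing Pd) L hint
    have hne : Polynomial.aeval (Ideal.Quotient.mk P a) (Polynomial.derivative Q) ≠ 0 := fun h0 => by
      have hsep : (Q.map (algebraMap Pd (FractionRing Pd))).Separable := by
        rw [← hmap]
        exact (minpoly.irreducible (hint.algebraMap.tower_top)).separable
      refine hsep.aeval_derivative_ne_zero (x := algebraMap (A ⧸ P) L (Ideal.Quotient.mk P a)) ?_ ?_
      · rw [Polynomial.aeval_map_algebraMap, Polynomial.aeval_algebraMap_apply, hQ0, map_zero]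
      · rw [Polynomial.derivative_map, Polynomial.aeval_map_algebraMap, Polynomial.aeval_algebraMap_apply, h0, map_zero]
    have hev : ∀ F : Polynomial Pd, Polynomial.aeval (Ideal.Quotient.mk P a) F = Ideal.Quotient.mk P (Polynomial.aeval a F) := fun F =>
      Polynomial.aeval_algHom_apply (Ideal.Quotient.mkₐ Pd P) a F
    have hder : ∀ F : Polynomial Pd, D (Polynomial.aeval a F) - algebraMap A κ (Polynomial.aeval a (Polynomial.derivative F)) • D a ∈ W := by
      intro F
      induction F using Polynomial.induction_on' with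
      | add F G hF hG =>
        simp only [map_add, add_smul]
        convert W.add_mem hF hG using 1
        abel
      | monomial j c =>
        rw [Polynomial.aeval_monomial, Polynomial.derivative_monomial, Polynomial.aeval_monomial, Derivation.leibniz,
          Derivation.leibniz_pow, hsmul (a ^ j), map_mul]
        have hm := W.smul_mem (algebraMap A κ (a ^ j)) (hWy c)
        convert hm using 1
        rw [← Nat.cast_smul_eq_nsmul A, hsmul, hsmul, hsmul, smul_smul, smul_smul]
        simp only [map_mul, map_natCast, map_pow]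
        abel
    have h1 : Polynomial.aeval a Q ∈ P := Ideal.Quotient.eq_zero_iff_mem.1 ((hev Q).symm.trans hQ0)
    have h2 := W.sub_mem (hWP _ h1) (hder Q)
    rw [sub_sub_cancel] at h2
    exact (Submodule.smul_mem_iff W (fun h0 => hne ((hev _).trans
      (Ideal.Quotient.eq_zero_iff_mem.2 ((Ideal.algebraMap_residueField_eq_zero).1 h0))))).1 h2
  have hW : W = ⊤ := by
    rw [eq_top_iff]
    rintro z -
    induction z using TensorProduct.induction_on with
    | zero => exact W.zero_mem
    | add a b ha hb => exact W.add_mem ha hb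
    | tmul c z =>
      rw [show c ⊗ₜ[A] z = c • ((1 : κ) ⊗ₜ[A] z) by rw [TensorProduct.smul_tmul', smul_eq_mul, mul_one]]
      refine W.smul_mem _ ?_
      have hz : z ∈ Submodule.span A (Set.range (dhat k A)) := by rw [span_dhat k A]; trivial
      induction hz using Submodule.span_induction with
      | mem z hz => obtain ⟨a, rfl⟩ := hz; exact hWall a
      | zero => rw [TensorProduct.tmul_zero]; exact W.zero_mem
      | add a b _ _ ha hb => rw [TensorProduct.tmul_add]; exact W.add_mem ha hb
      | smul c a _ ha => rw [TensorProduct.tmul_smul, ← algebraMap_smul κ c]; exact W.smul_mem _ ha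
  rw [← finrank_top κ V, ← hW]
  refine (finrank_range_le_card _).trans (le_of_eq ?_)
  rw [Fintype.card_sum, Fintype.card_fin, Fintype.card_fin]

/-- Freeness of the completed differentials at a geometrically regular point. -/
theorem free_of_isGeometricallyRegular (p : ℕ) [ExpChar k p] (hk : (frobenius k p).Finite) (P : Ideal A) [P.IsPrime]
    (hP : CAlg.IsGeometricallyRegular k (Localization.AtPrime P)) (q : Ideal A) (hq : q ∈ minimalPrimes A)
    (hqP : q ≤ P) {n : ℕ} (hn : ringKrullDim (A ⧸ q) = n) :
    Module.Free (Localization.AtPrime P) (LocalizedModule P.primeCompl (Om k A)) ∧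
      Module.finrank (Localization.AtPrime P) (LocalizedModule P.primeCompl (Om k A)) = n := by
  haveI : q.IsPrime := hq.1.1
  let R := Localization.AtPrime P
  haveI : IsRegularRing (k ⊗[k] R) := hP k inferInstance
  haveI : IsRegularRing R := IsRegularRing.of_ringEquiv (R := k ⊗[k] R) (Algebra.TensorProduct.lid k R).toRingEquiv
  haveI : IsRegularLocalRing (Localization.AtPrime P) := GrothLib.FibProp5.isRegularLocalRing_of_isRegularRing R
  haveI : IsDomain (Localization.AtPrime P) := GrothLib.CMFree.isDomain_of_isRegularLocalRing _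
  obtain ⟨hCloc, -, -⟩ := quotient_instances k A P
  haveI := hCloc
  obtain ⟨d, hd⟩ := exists_dim (A ⧸ P)
  obtain ⟨h, hh⟩ := exists_dim (Localization.AtPrime P)
  have hle : h + d ≤ n := by
    have h1 := dim_add_dim_le A P q fun x hx => algebraMap_eq_zero_of_mem P q hq hqP hx
    rw [hd, hn, hh] at h1
    exact_mod_cast h1
  refine free_of_fibre_le k A P q hq hqP hn (le_trans ?_ hle)
  cases ‹ExpChar k p› with
  | zero => exact fibre_le_charZero k A P hh hd
  | prime hp =>
    haveI := Fact.mk hp
    exact fibre_le_charP k A p hk P hP hh hd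

end GrothLib.CKaehler2
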