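import Groth.Agent.Lib.CKaehler2.Imperf
import Groth.Agent.Lib.CKaehler2.Generic
import Groth.Agent.Lib.FBase7.Models
import Groth.Agent.Lib.FibProp5.Semilocal
import Groth.Agent.S5054
import Groth.Agent.S2117

/-!
# Separable models after finite purely inseparable extensions
-/

universe u

open IsLocalRing
open scoped TensorProduct

set_option linter.style.haveILetI false
set_option linter.unusedSectionVars false
set_option maxSynthPendingDepth 3

noncomputable section

namespace GrothLib.CKaehler2

/-- The Frobenius of a finite extension of an F-finite field is finite. -/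
theorem frobenius_finite_of_finite (k k' : Type u) [Field k] [Field k'] [Algebra k k'] [Module.Finite k k']
    (p : ℕ) [ExpChar k p] [ExpChar k' p] (hk : (frobenius k p).Finite) : (frobenius k' p).Finite := by
  refine RingHom.Finite.of_comp_finite (f := algebraMap k k') ?_
  rw [← RingHom.frobenius_comm]
  exact (RingHom.finite_algebraMap.2 inferInstance).comp hk

theorem isMaximal_nilradical_of_subsingleton (R : Type u) [CommRing R] [Nontrivial R]
    [Subsingleton (PrimeSpectrum R)] : (nilradical R).IsMaximal := by
  obtain ⟨m, hm⟩ := Ideal.exists_maximal R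
  have : nilradical R = m := by
    rw [nilradical_eq_sInf]
    refine le_antisymm (sInf_le hm.isPrime) (le_sInf fun J hJ => le_of_eq ?_)
    exact congrArg PrimeSpectrum.asIdeal (Subsingleton.elim (⟨m, hm.isPrime⟩ : PrimeSpectrum R) ⟨J, hJ⟩)
  exact this ▸ hm

theorem isField_of_subsingleton (R : Type u) [CommRing R] [IsReduced R] [Nontrivial R]
    [Subsingleton (PrimeSpectrum R)] : IsField R := by
  have h := isMaximal_nilradical_of_subsingleton R
  rw [nilradical_eq_zero] at h
  exact Ring.isField_iff_maximal_bot.2 h

theorem isNoetherianRing_of_isField {R : Type u} [CommRing R] (h : IsField R) : IsNoetherianRing R :=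
  letI := h.toField
  inferInstance

/-- A finite extension of a separable extension becomes separable after a finite purely inseparable extension. -/
theorem exists_geometricallyReduced_insep (k M L : Type u) [Field k] [Field M] [Field L] [Algebra k M] [Algebra k L]
    [Algebra M L] [IsScalarTower k M L] [FiniteDimensional M L] (hM : Algebra.IsGeometricallyReduced k M) :
    ∃ (k' : Type u) (_ : Field k') (_ : Algebra k k'), FiniteDimensional k k' ∧ IsPurelyInseparable k k' ∧
      Algebra.IsGeometricallyReduced k' ((k' ⊗[k] L) ⧸ nilradical (k' ⊗[k] L)) := by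
  let K := perfectClosure k (AlgebraicClosure k)
  haveI : IsReduced (M ⊗[k] K) := by
    haveI : IsReduced (AlgebraicClosure k ⊗[k] M) := (Algebra.isGeometricallyReduced_field_iff k M).1 hM
    exact isReduced_of_injective ((Algebra.TensorProduct.map K.val (AlgHom.id k M)).comp
        (Algebra.TensorProduct.comm k M K).toAlgHom)
      ((Module.Flat.rTensor_preserves_injective_linearMap (M := M) K.val.toLinearMap Subtype.val_injective).comp
        (Algebra.TensorProduct.comm k M K).injective)
  have hhom := PrimeSpectrum.isHomeomorph_comap_of_isPurelyInseparable k K M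
  haveI : Subsingleton (PrimeSpectrum (M ⊗[k] K)) := hhom.injective.subsingleton
  haveI : Nontrivial (M ⊗[k] K) :=
    (Algebra.TensorProduct.includeLeft_injective (S := k) (A := M) (B := K) (algebraMap k K).injective).nontrivial
  haveI : IsNoetherianRing (M ⊗[k] K) := isNoetherianRing_of_isField (isField_of_subsingleton (M ⊗[k] K))
  haveI : IsNoetherianRing (K ⊗[k] L) := by
    haveI : IsNoetherianRing ((M ⊗[k] K) ⊗[M] L) :=
      IsNoetherianRing.of_finite (M ⊗[k] K) _
    exact isNoetherianRing_of_ringEquiv _ (((Algebra.TensorProduct.comm M (M ⊗[k] K) L).toRingEquiv).trans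
      ((Algebra.TensorProduct.cancelBaseChange k M L L K).toRingEquiv.trans
        (Algebra.TensorProduct.comm k L K).toRingEquiv))
  exact GrothLib.FBase7.exists_geometricallyReduced_model (k := k) K L

variable (k : Type u) [Field k]

/-- The fraction field of a complete local domain becomes separable after a finite purely inseparable
extension of the ground field. -/
theorem exists_separable_model (A : Type u) [CommRing A] [IsDomain A] [IsNoetherianRing A] [IsLocalRing A]
    [Algebra k A] [IsAdicComplete (maximalIdeal A) A] [Module.Finite k (ResidueField A)] {n : ℕ}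
    (hn : ringKrullDim A = n) :
    ∃ (k' : Type u) (_ : Field k') (_ : Algebra k k'), FiniteDimensional k k' ∧ IsPurelyInseparable k k' ∧
      Algebra.IsGeometricallyReduced k' ((k' ⊗[k] FractionRing A) ⧸ nilradical (k' ⊗[k] FractionRing A)) := by
  obtain ⟨alg, tow, hfin, hinj⟩ := exists_presentation k A hn
  letI := alg
  haveI := tow
  haveI := hfin
  haveI : IsDomain (MvPowerSeries (Fin n) k) := NoZeroDivisors.to_isDomain _
  let P := MvPowerSeries (Fin n) k
  haveI : IsDomain P := ‹IsDomain (MvPowerSeries (Fin n) k)›
  haveI : FaithfulSMul P A := (faithfulSMul_iff_algebraMap_injective P A).mpr hinj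
  haveI : Module.IsTorsionFree P A := FaithfulSMul.to_isTorsionFree P A
  haveI : FaithfulSMul P (FractionRing A) := (faithfulSMul_iff_algebraMap_injective P (FractionRing A)).mpr (by
    rw [IsScalarTower.algebraMap_eq P A (FractionRing A)]
    exact (IsFractionRing.injective A (FractionRing A)).comp hinj)
  letI : Algebra (FractionRing P) (FractionRing A) := FractionRing.liftAlgebra P (FractionRing A)
  haveI : IsScalarTower P (FractionRing P) (FractionRing A) := FractionRing.isScalarTower_liftAlgebra P (FractionRing A)
  haveI : FiniteDimensional (FractionRing (MvPowerSeries (Fin n) k)) (FractionRing A) := inferInstance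
  haveI : IsScalarTower k (FractionRing P) (FractionRing A) := IsScalarTower.of_algebraMap_eq fun c => by
    rw [IsScalarTower.algebraMap_apply k P (FractionRing P),
      ← IsScalarTower.algebraMap_apply P (FractionRing P) (FractionRing A),
      IsScalarTower.algebraMap_apply P A (FractionRing A), ← IsScalarTower.algebraMap_apply k P A]
    exact IsScalarTower.algebraMap_apply k A (FractionRing A) c
  exact exists_geometricallyReduced_insep k (FractionRing P) (FractionRing A) (Groth.Agent.S4551.result k n)

variable (k' : Type u) [Field k'] [Algebra k k'] [FiniteDimensional k k'] [IsPurelyInseparable k k']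

/-- Basic properties of the reduction of `k' ⊗ A` for purely inseparable `k'/k`. -/
theorem reduction_basic (A : Type u) [CommRing A] [IsDomain A] [IsNoetherianRing A] [IsLocalRing A]
    [Algebra k A] [IsAdicComplete (maximalIdeal A) A] [Module.Finite k (ResidueField A)] {n : ℕ}
    (hn : ringKrullDim A = n) :
    (nilradical (k' ⊗[k] A)).IsPrime ∧ IsNoetherianRing ((k' ⊗[k] A) ⧸ nilradical (k' ⊗[k] A)) ∧
      ringKrullDim ((k' ⊗[k] A) ⧸ nilradical (k' ⊗[k] A)) = n ∧
      (¬ IsField A → ¬ IsField ((k' ⊗[k] A) ⧸ nilradical (k' ⊗[k] A))) ∧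
      ∃ (_ : IsLocalRing ((k' ⊗[k] A) ⧸ nilradical (k' ⊗[k] A))),
        IsAdicComplete (maximalIdeal ((k' ⊗[k] A) ⧸ nilradical (k' ⊗[k] A))) ((k' ⊗[k] A) ⧸ nilradical (k' ⊗[k] A)) ∧
        Module.Finite k' (ResidueField ((k' ⊗[k] A) ⧸ nilradical (k' ⊗[k] A))) := by
  let X := k' ⊗[k] A
  let φ : A →+* X := (Algebra.TensorProduct.includeRight (R := k) (A := k') (B := A)).toRingHom
  have hφinj : Function.Injective φ := Algebra.TensorProduct.includeRight_injective (algebraMap k k').injective
  have hpow : ∀ x : X, ∃ m > 0, x ^ m ∈ φ.range := fun x => by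
    obtain ⟨m, hm, a, ha⟩ := IsPurelyInseparable.exists_pow_mem_range_tensorProduct (R := A) (K := k') (k := k)
      (Algebra.TensorProduct.comm k k' A x)
    refine ⟨m, hm, a, (Algebra.TensorProduct.comm k k' A).injective ?_⟩
    rw [map_pow, ← ha]
    exact Algebra.TensorProduct.comm_tmul (R := k) (A := k') (B := A) 1 a
  have hh := PrimeSpectrum.isHomeomorph_comap φ hpow (by rw [(RingHom.injective_iff_ker_eq_bot _).1 hφinj]; exact bot_le)
  obtain ⟨x0, hx0⟩ := hh.surjective ⟨⊥, Ideal.isPrime_bot⟩
  obtain ⟨x1, hx1⟩ := hh.surjective (closedPoint A)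
  have hle : ∀ x y : PrimeSpectrum X, PrimeSpectrum.comap φ x ≤ PrimeSpectrum.comap φ y → x ≤ y := fun x y h => by
    rw [PrimeSpectrum.le_iff_specializes] at h ⊢
    exact hh.isInducing.specializes_iff.1 h
  have hx0le : ∀ x, x0 ≤ x := fun x => hle _ _ (hx0 ▸ (bot_le : (⊥ : Ideal A) ≤ _))
  have hlex1 : ∀ x, x ≤ x1 := fun x => hle _ _ (hx1 ▸ le_maximalIdeal (PrimeSpectrum.comap φ x).2.ne_top)
  have hnil : nilradical X = x0.asIdeal := by
    rw [nilradical_eq_sInf]
    exact le_antisymm (sInf_le x0.2) (le_sInf fun J hJ => hx0le ⟨J, hJ⟩)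
  have hprime : (nilradical X).IsPrime := hnil ▸ x0.2
  haveI : Nontrivial X := hφinj.nontrivial
  haveI : IsLocalRing X := IsLocalRing.of_unique_max_ideal ⟨x1.asIdeal,
    (x1.2.ne_top |> fun h => Ideal.isMaximal_def.2 ⟨h, fun J hJ => by
      by_contra hne
      obtain ⟨m, hm, hJm⟩ := Ideal.exists_le_maximal J hne
      exact (hJ.trans_le hJm).not_ge (hlex1 ⟨m, hm.isPrime⟩)⟩),
    fun m hm => hm.eq_of_le x1.2.ne_top (hlex1 ⟨m, hm.isPrime⟩)⟩
  let N := nilradical X
  let B := X ⧸ N
  letI : Algebra A X := φ.toAlgebra
  haveI : IsScalarTower k A X := IsScalarTower.of_algebraMap_eq fun c =>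
    ((Algebra.TensorProduct.includeRight (R := k) (A := k') (B := A)).commutes c).symm
  haveI : Module.Finite A X := by
    let e : A ⊗[k] k' →ₗ[A] X :=
      { toFun := Algebra.TensorProduct.comm k A k'
        map_add' := map_add _
        map_smul' := fun a z => by
          rw [Algebra.smul_def, map_mul, RingHom.id_apply, Algebra.smul_def]
          congr 1 }
    exact Module.Finite.of_surjective e (Algebra.TensorProduct.comm k A k').surjective
  haveI : Module.Finite A B := Module.Finite.of_surjective (Ideal.Quotient.mkₐ A N).toLinearMap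
    Ideal.Quotient.mk_surjective
  haveI : N.IsPrime := hprime
  haveI : IsDomain B := Ideal.Quotient.isDomain N
  haveI hnoeth : IsNoetherianRing B := IsNoetherianRing.of_finite A B
  haveI hloc : IsLocalRing B := IsLocalRing.of_surjective' (Ideal.Quotient.mk N) Ideal.Quotient.mk_surjective
  have hAB : Function.Injective (algebraMap A B) := (injective_iff_map_eq_zero _).2 fun a ha => by
    have h1 : φ a ∈ N := Ideal.Quotient.eq_zero_iff_mem.1 ha
    obtain ⟨m, hm⟩ := mem_nilradical.1 h1
    rw [← map_pow] at hm
    exact eq_zero_of_pow_eq_zero (hφinj (hm.trans (map_zero φ).symm))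
  haveI : Algebra.IsIntegral A B := Algebra.IsIntegral.of_finite A B
  refine ⟨hprime, hnoeth, ?_, fun hA hB => hA ?_, hloc, GrothLib.FibProp5.isAdicComplete_of_finite_domain A B, ?_⟩
  · rw [GrothLib.Dim.ringKrullDim_eq_of_isIntegral (R := A) hAB, hn]
  · exact isField_of_isIntegral_of_isField hAB hB
  · haveI : IsLocalHom (algebraMap A B) := RingHom.IsIntegral.isLocalHom (Algebra.IsIntegral.isIntegral (R := A)) hAB
    haveI : Module.Finite (ResidueField A) (ResidueField B) := Module.Finite.of_restrictScalars_finite A _ _
    haveI : IsScalarTower k (ResidueField A) (ResidueField B) := IsScalarTower.of_algebraMap_eq fun c => by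
      rw [IsScalarTower.algebraMap_apply k A (ResidueField A), ← IsScalarTower.algebraMap_apply A (ResidueField A)
        (ResidueField B), ← IsScalarTower.algebraMap_apply k A (ResidueField B)]
    haveI : Module.Finite k (ResidueField B) := Module.Finite.trans (ResidueField A) _
    exact Module.Finite.of_restrictScalars_finite k k' _

/-- The fraction field of the reduction of `k' ⊗ A` is geometrically reduced if that of `k' ⊗ L` is. -/
theorem isGeometricallyReduced_fraction (A : Type u) [CommRing A] [IsDomain A] [Algebra k A]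
    [IsDomain ((k' ⊗[k] A) ⧸ nilradical (k' ⊗[k] A))]
    (h : Algebra.IsGeometricallyReduced k' ((k' ⊗[k] FractionRing A) ⧸ nilradical (k' ⊗[k] FractionRing A))) :
    Algebra.IsGeometricallyReduced k' (FractionRing ((k' ⊗[k] A) ⧸ nilradical (k' ⊗[k] A))) := by
  let L := FractionRing A
  let X := k' ⊗[k] A
  let Y := k' ⊗[k] L
  let ι : X →ₐ[k'] Y := Algebra.TensorProduct.map (AlgHom.id k' k') (IsScalarTower.toAlgHom k A L)
  have hι : Function.Injective ι :=
    Module.Flat.lTensor_preserves_injective_linearMap (M := k') (IsScalarTower.toAlgHom k A L).toLinearMap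
      (IsFractionRing.injective A L)
  let g0 : X →ₐ[k'] Y ⧸ nilradical Y := (Ideal.Quotient.mkₐ k' (nilradical Y)).comp ι
  let g : X ⧸ nilradical X →ₐ[k'] Y ⧸ nilradical Y := Ideal.Quotient.liftₐ (nilradical X) g0 fun x hx => by
    show Ideal.Quotient.mk (nilradical Y) (ι x) = 0
    rw [Ideal.Quotient.eq_zero_iff_mem, mem_nilradical]
    exact (mem_nilradical.1 hx).map ι
  have hg : Function.Injective g := (injective_iff_map_eq_zero g).2 fun z hz => by
    obtain ⟨x, rfl⟩ := Ideal.Quotient.mk_surjective z
    change Ideal.Quotient.mk (nilradical Y) (ι x) = 0 at hz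
    rw [Ideal.Quotient.eq_zero_iff_mem, mem_nilradical] at hz
    rw [Ideal.Quotient.eq_zero_iff_mem, mem_nilradical]
    exact (IsNilpotent.map_iff hι).1 hz
  haveI : Subsingleton (PrimeSpectrum Y) := by
    let e := (Algebra.TensorProduct.comm k L k').toRingEquiv
    haveI : Subsingleton (PrimeSpectrum (L ⊗[k] k')) :=
      (PrimeSpectrum.isHomeomorph_comap_of_isPurelyInseparable k k' L).injective.subsingleton
    exact (PrimeSpectrum.comapEquiv e).toEquiv.symm.subsingleton
  haveI : Nontrivial Y :=
    (Algebra.TensorProduct.includeRight_injective (R := k) (A := k') (B := L) (algebraMap k k').injective).nontrivial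
  haveI : (nilradical Y).IsMaximal := isMaximal_nilradical_of_subsingleton Y
  letI := Ideal.Quotient.field (nilradical Y)
  let ψ : FractionRing (X ⧸ nilradical X) →ₐ[k'] Y ⧸ nilradical Y := IsFractionRing.liftAlgHom hg
  exact Algebra.IsGeometricallyReduced.of_injective ψ ψ.toRingHom.injective

/-- A separable complete local domain over an F-finite field is finite and generically unramified
over a power series ring. -/
theorem exists_unramified_presentation (p : ℕ) [ExpChar k p] (hk : (frobenius k p).Finite)
    (B : Type u) [CommRing B] [IsDomain B] [IsNoetherianRing B] [IsLocalRing B] [Algebra k B]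
    [IsAdicComplete (maximalIdeal B) B] [Module.Finite k (ResidueField B)] (hB : ¬ IsField B) {n : ℕ}
    (hn : ringKrullDim B = n) (hsep : Algebra.IsGeometricallyReduced k (FractionRing B)) :
    ∃ (_ : Algebra (MvPowerSeries (Fin n) k) B) (_ : IsScalarTower k (MvPowerSeries (Fin n) k) B),
      IsLocalHom (algebraMap (MvPowerSeries (Fin n) k) B) ∧ Module.Finite (MvPowerSeries (Fin n) k) B ∧
      Function.Injective (algebraMap (MvPowerSeries (Fin n) k) B) ∧
        Algebra.IsUnramifiedAt (MvPowerSeries (Fin n) k) (⊥ : Ideal B) := by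
  haveI := finite_kaehler_residueField k B
  haveI := finite_om' k B
  cases ‹ExpChar k p› with
  | zero =>
    obtain ⟨alg, tow, hfin, hinj⟩ := exists_presentation k B hn
    letI := alg
    haveI := tow
    haveI := hfin
    haveI : IsDomain (MvPowerSeries (Fin n) k) := NoZeroDivisors.to_isDomain _
    let P := MvPowerSeries (Fin n) k
    haveI : IsDomain P := ‹IsDomain (MvPowerSeries (Fin n) k)›
    refine ⟨alg, tow, RingHom.IsIntegral.isLocalHom (Algebra.IsIntegral.of_finite P B).isIntegral hinj, hfin, hinj, ?_⟩
    haveI : FaithfulSMul P B := (faithfulSMul_iff_algebraMap_injective P B).mpr hinj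
    haveI : Module.IsTorsionFree P B := FaithfulSMul.to_isTorsionFree P B
    haveI : FaithfulSMul P (FractionRing B) := (faithfulSMul_iff_algebraMap_injective P (FractionRing B)).mpr (by
      rw [IsScalarTower.algebraMap_eq P B (FractionRing B)]
      exact (IsFractionRing.injective B (FractionRing B)).comp hinj)
    letI : Algebra (FractionRing P) (FractionRing B) := FractionRing.liftAlgebra P (FractionRing B)
    haveI : IsScalarTower P (FractionRing P) (FractionRing B) := FractionRing.isScalarTower_liftAlgebra P (FractionRing B)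
    haveI : FiniteDimensional (FractionRing (MvPowerSeries (Fin n) k)) (FractionRing B) := inferInstance
    haveI : CharZero P := charZero_of_injective_algebraMap (algebraMap k P).injective
    haveI : CharZero (FractionRing P) := charZero_of_injective_algebraMap (IsFractionRing.injective P (FractionRing P))
    haveI : Algebra.IsSeparable (FractionRing P) (FractionRing B) := inferInstance
    haveI : Algebra.FormallyUnramified (FractionRing P) (FractionRing B) :=
      Algebra.FormallyUnramified.of_isSeparable _ _
    haveI : Algebra.FormallyUnramified P (FractionRing P) :=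
      Algebra.FormallyUnramified.of_isLocalization (nonZeroDivisors P)
    haveI : Algebra.FormallyUnramified P (FractionRing B) := Algebra.FormallyUnramified.comp P (FractionRing P) _
    haveI : IsLocalization (⊥ : Ideal B).primeCompl (FractionRing B) := by
      rw [show (⊥ : Ideal B).primeCompl = nonZeroDivisors B from
        Submonoid.ext fun x => by simp [Ideal.primeCompl, mem_nonZeroDivisors_iff_ne_zero]]
      infer_instance
    exact Algebra.FormallyUnramified.of_equiv
      ((IsLocalization.algEquiv (⊥ : Ideal B).primeCompl (FractionRing B)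
        (Localization.AtPrime (⊥ : Ideal B))).restrictScalars P)
  | prime hp =>
    haveI := Fact.mk hp
    obtain ⟨hfinΩ, hrank⟩ := finite_kaehler_and_finrank k p hk B (FractionRing B) hn
    haveI := hfinΩ
    rw [LinearMap.ker_eq_bot.2 ((Groth.Agent.S2117.result p).1 hsep), finrank_bot, add_zero] at hrank
    haveI : Algebra.FormallyEtale B (FractionRing B) := Algebra.FormallyEtale.of_isLocalization (nonZeroDivisors B)
    let e := KaehlerDifferential.tensorKaehlerEquivOfFormallyEtale k B (FractionRing B)
    obtain ⟨w, hw⟩ := exists_frac_gens (A := B) (M := Ω[B⁄k])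
    have hcard : Module.finrank (FractionRing B) (FractionRing B ⊗[B] Ω[B⁄k]) = n := e.finrank_eq.trans hrank
    let w' : Fin n → Ω[B⁄k] := w ∘ Fin.cast hcard.symm
    have hw' : Set.range w' = Set.range w := ((finCongr hcard.symm).surjective.range_comp w)
    haveI : IsAdicComplete (maximalIdeal B) (Ω[B⁄k]) := GrothLib.AdicLim.isAdicComplete_of_finite (maximalIdeal B) _
    let j : Ω[B⁄k] →ₗ[B] Om k B := (AdicCompletion.ofLinearEquiv (maximalIdeal B) (Ω[B⁄k])).toLinearMap
    have hgen : ∀ x : Om k B, ∃ t ∉ (⊥ : Ideal B), t • x ∈ Submodule.span B (Set.range (j ∘ w')) := fun x => by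
      obtain ⟨y, rfl⟩ := (AdicCompletion.ofLinearEquiv (maximalIdeal B) (Ω[B⁄k])).surjective x
      obtain ⟨t, ht, hmem⟩ := hw y
      refine ⟨t, by simpa using ht, ?_⟩
      have := Submodule.mem_map_of_mem (f := j) hmem
      rwa [← hw', Submodule.map_span, ← Set.range_comp, map_smul] at this
    have hbot : (⊥ : Ideal B) ≠ maximalIdeal B := fun h => hB (IsLocalRing.isField_iff_maximalIdeal_eq.2 h.symm)
    have hq : ∃ q ∈ minimalPrimes B, q ≤ (⊥ : Ideal B) ∧ ringKrullDim (B ⧸ q) = ringKrullDim B :=
      ⟨⊥, by rw [IsDomain.minimalPrimes_eq_singleton_bot]; rfl, le_rfl,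
        ringKrullDim_eq_of_ringEquiv (RingEquiv.quotientBot B)⟩
    obtain ⟨alg, tow, hloc, hfin, hunr⟩ := (Groth.Agent.S5054.result k B ⊥ hbot hq n).1
      ⟨_, (span_localized_iff ⊥ (j ∘ w')).2 hgen⟩
    letI := alg
    haveI := tow
    haveI := hfin
    exact ⟨alg, tow, hloc, hfin, injective_of_dim k B hn, hunr⟩

end GrothLib.CKaehler2
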