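import Groth.Agent.Lib.CKaehler2.Basic
import Groth.Agent.Lib.RegLoc.PowerSeries
import Groth.Agent.Lib.AdicFS.PowerSeries
import Groth.Agent.Lib.FibProp5.Length
import Groth.Agent.Lib.Dim.Ring

/-!
# Finite maps from power series rings to complete local algebras
-/

universe u

open IsLocalRing

set_option linter.style.haveILetI false

noncomputable section

namespace GrothLib.CKaehler2

variable (k A : Type u) [Field k] [CommRing A] [IsLocalRing A] [Algebra k A]

section Ext

set_option linter.unusedSectionVars false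

variable {m : ℕ} [Algebra (MvPowerSeries (Fin m) k) A] [IsScalarTower k (MvPowerSeries (Fin m) k) A]

theorem map_maximalIdeal_le (hX : ∀ i, algebraMap (MvPowerSeries (Fin m) k) A (MvPowerSeries.X i) ∈ maximalIdeal A) :
    (maximalIdeal (MvPowerSeries (Fin m) k)).map (algebraMap (MvPowerSeries (Fin m) k) A) ≤ maximalIdeal A := by
  rw [← GrothLib.RegLoc.PS.span_X k, Ideal.map_span, Ideal.span_le]
  rintro _ ⟨_, ⟨i, rfl⟩, rfl⟩
  exact hX i

theorem X_mem_of_isLocalHom [IsLocalHom (algebraMap (MvPowerSeries (Fin m) k) A)] (i : Fin m) :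
    algebraMap (MvPowerSeries (Fin m) k) A (MvPowerSeries.X i) ∈ maximalIdeal A :=
  map_nonunit _ _ (GrothLib.RegLoc.PS.X_mem k i)

theorem isLocalHom_of_X_mem (hX : ∀ i, algebraMap (MvPowerSeries (Fin m) k) A (MvPowerSeries.X i) ∈ maximalIdeal A) :
    IsLocalHom (algebraMap (MvPowerSeries (Fin m) k) A) :=
  ((local_hom_TFAE _).out 0 2 rfl rfl).2 (map_maximalIdeal_le k A hX)

/-- A derivation of a power series ring killing the variables kills everything. -/
theorem derivation_eq_zero {M : Type*} [AddCommGroup M] [Module (MvPowerSeries (Fin m) k) M] [Module k M]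
    [IsScalarTower k (MvPowerSeries (Fin m) k) M] [IsHausdorff (maximalIdeal (MvPowerSeries (Fin m) k)) M]
    (D : Derivation k (MvPowerSeries (Fin m) k) M) (h : ∀ i, D (MvPowerSeries.X i) = 0) : D = 0 := by
  refine Derivation.ext fun f => ?_
  rw [Derivation.zero_apply]
  refine IsHausdorff.haus (I := maximalIdeal (MvPowerSeries (Fin m) k)) inferInstance _ fun n => ?_
  rw [SModEq.zero]
  have hpoly : ∀ p : MvPolynomial (Fin m) k, D (p : MvPowerSeries (Fin m) k) = 0 := by
    intro p
    induction p using MvPolynomial.induction_on with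
    | C c =>
      rw [MvPolynomial.coe_C, show MvPowerSeries.C c = algebraMap k (MvPowerSeries (Fin m) k) c by
        simp [MvPowerSeries.algebraMap_apply]]
      exact Derivation.map_algebraMap D c
    | add p q hp hq => rw [MvPolynomial.coe_add, map_add, hp, hq, add_zero]
    | mul_X p i hp => rw [MvPolynomial.coe_mul, MvPolynomial.coe_X, Derivation.leibniz, hp, h, smul_zero, smul_zero, add_zero]
  have hd := GrothLib.AdicFS.sub_truncTotal_mem (A := k) f (n + 1)
  have hle : GrothLib.AdicFS.varsIdeal k m ≤ maximalIdeal (MvPowerSeries (Fin m) k) := by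
    rw [GrothLib.AdicFS.varsIdeal, MvPolynomial.idealOfVars, Ideal.map_span, Ideal.span_le]
    rintro _ ⟨_, ⟨i, rfl⟩, rfl⟩
    rw [MvPowerSeries.algebraMap_apply']
    simpa using GrothLib.RegLoc.PS.X_mem k i
  have h1 := derivation_pow_mem k D (maximalIdeal _) n (Ideal.pow_right_mono hle (n + 1) hd)
  rw [map_sub, MvPowerSeries.algebraMap_apply'] at h1
  simpa [hpoly] using h1

variable [IsNoetherianRing A] [IsAdicComplete (maximalIdeal A) A]
  [Module.Finite (ResidueField A) (Ω[ResidueField A⁄k])]

/-- Over a power series ring, the relative span is spanned by the differentials of the variables. -/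
theorem relSpan_powerSeries (hX : ∀ i, algebraMap (MvPowerSeries (Fin m) k) A (MvPowerSeries.X i) ∈ maximalIdeal A) :
    relSpan k A (MvPowerSeries (Fin m) k) =
      Submodule.span A (Set.range fun i => dhat k A (algebraMap (MvPowerSeries (Fin m) k) A (MvPowerSeries.X i))) := by
  set K := Submodule.span A (Set.range fun i => dhat k A (algebraMap (MvPowerSeries (Fin m) k) A (MvPowerSeries.X i)))
  refine le_antisymm (Submodule.span_le.2 ?_) (Submodule.span_mono ?_)
  · haveI := finite_om k A
    let Q := Om k A ⧸ K
    haveI : IsHausdorff (maximalIdeal A) Q :=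
      (GrothLib.AdicLim.isAdicComplete_of_finite (maximalIdeal A) Q).toIsHausdorff
    haveI : IsHausdorff (maximalIdeal (MvPowerSeries (Fin m) k)) Q := by
      refine ⟨fun x hx => IsHausdorff.haus (I := maximalIdeal A) inferInstance x fun n => ?_⟩
      have h := hx n
      rw [SModEq.zero] at h ⊢
      clear hx
      refine Submodule.smul_induction_on h (fun a ha q _ => ?_) (fun x y hx hy => add_mem hx hy)
      rw [← algebraMap_smul A a q]
      refine Submodule.smul_mem_smul ?_ trivial
      exact (Ideal.pow_right_mono (map_maximalIdeal_le k A hX) n)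
        (by rw [← Ideal.map_pow]; exact Ideal.mem_map_of_mem _ ha)
    let D : Derivation k (MvPowerSeries (Fin m) k) Q :=
      Derivation.compAlgebraMap (MvPowerSeries (Fin m) k) (K.mkQ.compDer (dhat k A))
    have hD : D = 0 := derivation_eq_zero k D fun i =>
      (Submodule.Quotient.mk_eq_zero K).2 (Submodule.subset_span ⟨i, rfl⟩)
    rintro _ ⟨r, rfl⟩
    exact (Submodule.Quotient.mk_eq_zero K).1 (Derivation.congr_fun hD r)
  · rintro _ ⟨i, rfl⟩
    exact ⟨_, rfl⟩

/-- `k[[T]] → A` is unramified at `p` iff the differentials of the images of the variables generate at `p`. -/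
theorem isUnramifiedAt_powerSeries_iff [Module.Finite (MvPowerSeries (Fin m) k) A]
    (hX : ∀ i, algebraMap (MvPowerSeries (Fin m) k) A (MvPowerSeries.X i) ∈ maximalIdeal A)
    (p : Ideal A) [p.IsPrime] :
    Algebra.IsUnramifiedAt (MvPowerSeries (Fin m) k) p ↔ ∀ ω : Om k A, ∃ t ∉ p,
      t • ω ∈ Submodule.span A (Set.range fun i => dhat k A (algebraMap (MvPowerSeries (Fin m) k) A (MvPowerSeries.X i))) := by
  rw [← relSpan_powerSeries k A hX, isUnramifiedAt_iff k A (MvPowerSeries (Fin m) k) p]

end Ext

section Finite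

variable [IsNoetherianRing A] [IsAdicComplete (maximalIdeal A) A] [Module.Finite k (ResidueField A)]

/-- Elements generating an ideal primary to the maximal ideal define a finite map from a power series ring. -/
theorem exists_finite_of_radical {m : ℕ} (x : Fin m → A) (hx : ∀ i, x i ∈ maximalIdeal A)
    (hrad : maximalIdeal A ≤ (Ideal.span (Set.range x)).radical) :
    ∃ (_ : Algebra (MvPowerSeries (Fin m) k) A) (_ : IsScalarTower k (MvPowerSeries (Fin m) k) A),
      (∀ i, algebraMap (MvPowerSeries (Fin m) k) A (MvPowerSeries.X i) = x i) ∧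
      IsLocalHom (algebraMap (MvPowerSeries (Fin m) k) A) ∧ Module.Finite (MvPowerSeries (Fin m) k) A := by
  let P := MvPowerSeries (Fin m) k
  obtain ⟨ψ, hψ⟩ := GrothLib.RegLoc.PS.exists_algHom (A := k) (maximalIdeal A) x hx
  letI : Algebra P A := ψ.toRingHom.toAlgebra
  haveI : IsScalarTower k P A := IsScalarTower.of_algebraMap_eq fun c => (ψ.commutes c).symm
  have hX : ∀ i, algebraMap P A (MvPowerSeries.X i) ∈ maximalIdeal A := fun i => by
    show ψ (MvPowerSeries.X i) ∈ _
    rw [hψ]; exact hx i
  refine ⟨inferInstance, inferInstance, hψ, isLocalHom_of_X_mem k A hX, ?_⟩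
  haveI : IsHausdorff (maximalIdeal P) A := by
    refine ⟨fun z hz => IsHausdorff.haus (I := maximalIdeal A) inferInstance z fun n => ?_⟩
    have h := hz n
    rw [SModEq.zero, Ideal.smul_top_eq_map, Submodule.restrictScalars_mem, Ideal.map_pow] at h
    rw [SModEq.zero, smul_eq_mul, Ideal.mul_top]
    exact Ideal.pow_right_mono (map_maximalIdeal_le k A hX) n h
  refine GrothLib.AdicExtra.finite_of_quotient_finite (I := maximalIdeal P) ?_
  have hJ : (maximalIdeal P).map (algebraMap P A) = Ideal.span (Set.range x) := by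
    rw [← GrothLib.RegLoc.PS.span_X k, Ideal.map_span, ← Set.range_comp]
    exact congrArg (fun t => Ideal.span (Set.range t)) (funext hψ)
  obtain ⟨N, hN⟩ := Ideal.exists_radical_pow_le_of_fg (Ideal.span (Set.range x)) (IsNoetherian.noetherian _)
  have hN' := (Ideal.pow_right_mono hrad N).trans hN
  haveI : Module.Finite k (A ⧸ Ideal.span (Set.range x)) := by
    refine GrothLib.FibProp5.finite_of_pow_smul k (D := A) N _ (eq_bot_iff.2 fun z hz => ?_)
    refine Submodule.smul_induction_on hz (fun a ha q _ => ?_) (fun u v hu hv => add_mem hu hv)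
    obtain ⟨q, rfl⟩ := Ideal.Quotient.mk_surjective q
    rw [Submodule.mem_bot, ← Ideal.Quotient.mk_eq_mk, ← Submodule.Quotient.mk_smul, Submodule.Quotient.mk_eq_zero]
    exact Ideal.mul_mem_right _ _ (hN' ha)
  haveI : Module.Finite P (A ⧸ Ideal.span (Set.range x)) := Module.Finite.of_restrictScalars_finite k P _
  have heq : (maximalIdeal P • ⊤ : Submodule P A) = (Ideal.span (Set.range x)).restrictScalars P := by
    rw [Ideal.smul_top_eq_map, hJ]
  exact Module.Finite.equiv ((Submodule.Quotient.restrictScalarsEquiv P (Ideal.span (Set.range x))).symm.trans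
    (Submodule.quotEquivOfEq _ _ heq.symm))

theorem ringKrullDim_powerSeries (m : ℕ) : ringKrullDim (MvPowerSeries (Fin m) k) = m := by
  refine le_antisymm ?_ (GrothLib.RegLoc.PS.natCast_le_ringKrullDim k m)
  rw [← IsLocalRing.maximalIdeal_height_eq_ringKrullDim]
  have h1 := Ideal.height_le_spanFinrank (maximalIdeal (MvPowerSeries (Fin m) k))
    (maximalIdeal.isMaximal _).ne_top
  have h2 : (maximalIdeal (MvPowerSeries (Fin m) k)).spanFinrank ≤ m := by
    rw [← GrothLib.RegLoc.PS.span_X k]
    refine (Submodule.spanFinrank_span_le_ncard_of_finite (Set.finite_range _)).trans ?_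
    rw [← Set.image_univ]
    exact (Set.ncard_image_le Set.finite_univ).trans (by simp)
  exact_mod_cast h1.trans (by exact_mod_cast h2)

omit [IsLocalRing A] [IsNoetherianRing A] [IsAdicComplete (maximalIdeal A) A] [Module.Finite k (ResidueField A)] in
/-- A finite algebra over a power series ring of the same dimension contains it. -/
theorem injective_of_dim {m : ℕ} (D : Type u) [CommRing D] [Algebra (MvPowerSeries (Fin m) k) D]
    [Module.Finite (MvPowerSeries (Fin m) k) D] (hdim : ringKrullDim D = m) :
    Function.Injective (algebraMap (MvPowerSeries (Fin m) k) D) := by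
  let P := MvPowerSeries (Fin m) k
  rw [RingHom.injective_iff_ker_eq_bot]
  by_contra hne
  obtain ⟨r, hr, hr0⟩ := Submodule.exists_mem_ne_zero_of_ne_bot hne
  letI : Algebra (P ⧸ RingHom.ker (algebraMap P D)) D := (RingHom.kerLift (algebraMap P D)).toAlgebra
  haveI : Module.Finite (P ⧸ RingHom.ker (algebraMap P D)) D := RingHom.Finite.of_comp_finite
    (f := Ideal.Quotient.mk (RingHom.ker (algebraMap P D))) (g := RingHom.kerLift (algebraMap P D))
    (show (algebraMap P D).Finite from RingHom.finite_algebraMap.2 inferInstance)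
  have h1 : ringKrullDim D = ringKrullDim (P ⧸ RingHom.ker (algebraMap P D)) :=
    GrothLib.Dim.ringKrullDim_eq_of_isIntegral (RingHom.kerLift_injective _)
  have h2 : ringKrullDim (P ⧸ RingHom.ker (algebraMap P D)) ≤ ringKrullDim (P ⧸ Ideal.span {r}) :=
    ringKrullDim_le_of_surjective (Ideal.Quotient.factor ((Ideal.span_singleton_le_iff_mem _).2 hr))
      (Ideal.Quotient.factor_surjective _)
  have h3 := ringKrullDim_quotient_succ_le_of_nonZeroDivisor (mem_nonZeroDivisors_of_ne_zero hr0)
  have h4 : (m : WithBot ℕ∞) + 1 ≤ m := by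
    rw [← hdim]
    exact (add_le_add (h1 ▸ h2) le_rfl).trans (h3.trans (by rw [ringKrullDim_powerSeries, hdim]))
  have : m + 1 ≤ m := by exact_mod_cast h4
  omega

end Finite

end GrothLib.CKaehler2
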